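import Cfsg.Agent.H872.TD4.Inst
import Cfsg.Agent.H482.TwoCyc.Row

/-!
# TEAM TWOCYC (S3507): the row `³D₄(q)` (helper872)
-/

set_option autoImplicit false

namespace Cfsg.Agent.H872.TD4

open Cfsg Cfsg.Agent.H384.Cyc

universe u v

/-- one of the two criteria applies to every `³D₄(q)` -/
theorem sm_or_smC {T : Type u} [Group T] (h : Lie.Iso3D4 T) : Sm T ∨ SmC T := by
  obtain ⟨K, _, _, q, hq, hK, ⟨e⟩⟩ := h
  by_cases h2 : q = 2
  · subst h2
    exact Or.inl ((Inst.sm_two hK).congr e.symm)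
  right
  by_cases h4 : q = 4
  · subst h4
    exact (smC_four hK).congr e.symm
  obtain ⟨p, f, hp, hf, rfl⟩ := hq
  exact (smC_gen hp.nat_prime hf hK h2 h4).congr e.symm

/-- **The row `³D₄(q)`.** -/
theorem row_3D4 : Row3.{u, v} (fun T _ => Lie.Iso3D4 T) := by
  intro G Ω _ _ T g h hP
  rcases sm_or_smC hP with h1 | h1
  · exact H482.TwoCyc.row_sm G Ω T g h h1
  · exact H482.TwoCyc.row_smC G Ω T g h h1

end Cfsg.Agent.H872.TD4
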