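import Cfsg.Agent.H872.TD4.Inst
import Cfsg.Agent.S1088

/-!
# TEAM TWOCYC (S3507): `Ord` for `³D₄(q)` (helper872)
-/

set_option autoImplicit false

namespace Cfsg.Agent.H872.TD4

open Cfsg Cfsg.Lie Cfsg.Agent.H384.Cyc

universe u

variable {K : Type u} [Field K] [Fintype K]

theorem card_U {q : ℕ} (hq : IsPrimePow q) (hK : Fintype.card K = q ^ 3) :
    ∃ U : Subgroup ↥(twistedD4 K q), Nat.card U = q ^ 12 := by
  refine ⟨(chevD4.posUnipotent K).subgroupOf (twistedD4 K q), ?_⟩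
  rw [← S1088.result hq hK]
  exact Nat.card_congr ⟨fun x => ⟨x.1.1, x.2, x.1.2⟩, fun x => ⟨⟨x.1, x.2.2⟩, x.2.1⟩, fun _ => rfl, fun _ => rfl⟩

theorem card_ge {q : ℕ} (hq : IsPrimePow q) (hK : Fintype.card K = q ^ 3) : q ^ 12 ≤ Nat.card ↥(twistedD4 K q) := by
  obtain ⟨U, hU⟩ := card_U hq hK
  rw [← hU]
  exact Nat.card_le_card_of_injective _ Subtype.val_injective

theorem ord_two (hK : Fintype.card K = 2 ^ 3) : H384.Cyc.Ord ↥(twistedD4 K 2) := by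
  refine ⟨84, mo_two hK, ?_⟩
  obtain ⟨U, hU⟩ := card_U (q := 2) Nat.prime_two.isPrimePow hK
  have h1 := U.card_mul_index
  by_cases hT : U = ⊤
  · exfalso
    have h2 : IsPGroup 2 ↥(twistedD4 K 2) := by
      apply IsPGroup.of_card (n := 12)
      rw [hT, Subgroup.card_top] at hU
      exact hU
    have := (S1071.result (K := K) (q := 2) Nat.prime_two.isPrimePow hK).1
    have h3 := (S1071.result (K := K) (q := 2) Nat.prime_two.isPrimePow hK).2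
    have : Fact (Nat.Prime 2) := ⟨Nat.prime_two⟩
    have : Group.IsNilpotent ↥(twistedD4 K 2) := h2.isNilpotent
    apply h3
    have h4 : Group.IsSolvable ↥(twistedD4 K 2) := inferInstance
    exact ⟨⟨(IsSimpleGroup.comm_iff_isSolvable).2 h4⟩⟩
  · have h2 := Inst.index_ge hK U hT
    rw [hU] at h1
    have h3 : 2 ^ 12 * 224 ≤ 2 ^ 12 * U.index := Nat.mul_le_mul_left _ h2
    omega

theorem ord_four (hK : Fintype.card K = 4 ^ 3) : H384.Cyc.Ord ↥(twistedD4 K 4) := by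
  refine ⟨945, mo_four hK, ?_⟩
  have h1 := card_ge (q := 4) ⟨2, 2, Nat.prime_two.prime, by norm_num, by norm_num⟩ hK
  exact lt_of_lt_of_le (by norm_num) h1

theorem ord_gen {p f : ℕ} (hp : p.Prime) (hf : 0 < f) (hK : Fintype.card K = (p ^ f) ^ 3) (h2 : p ^ f ≠ 2)
    (h4 : p ^ f ≠ 4) : H384.Cyc.Ord ↥(twistedD4 K (p ^ f)) := by
  obtain ⟨δ, hδ⟩ : ∃ δ, δ = p ^ f * ((p ^ f) ^ 4 - (p ^ f) ^ 2 + 1) := ⟨_, rfl⟩
  refine ⟨3 * f * (δ / (2 * f)), mo_gen hp hf hK fun n hn => ?_, ?_⟩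
  · rw [Nat.le_div_iff_mul_le (by omega), mul_comm, hδ]
    exact ob_le hp hf h2 h4 hn
  · have h5 : 2 * f * (δ / (2 * f)) ≤ δ := Nat.mul_div_le δ (2 * f)
    have h6 := card_ge (hp.isPrimePow.pow hf.ne') hK
    obtain ⟨q, hq⟩ : ∃ q, q = p ^ f := ⟨_, rfl⟩
    have hq2 : 3 ≤ q := by
      have h7 : p ^ 1 ≤ p ^ f := Nat.pow_le_pow_right hp.pos hf
      have h8 := hp.two_le
      rw [pow_one] at h7
      rw [← hq] at h2 h7
      omega
    rw [← hq] at hδ h6 ⊢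
    generalize Nat.card ↥(twistedD4 K q) = N at h6 ⊢
    have h9 : δ ≤ q ^ 5 := by
      have e : q ^ 4 - q ^ 2 + 1 ≤ q ^ 4 := by
        have h10 : q ^ 2 ≤ q ^ 4 := Nat.pow_le_pow_right (by omega) (by norm_num)
        have h11 : 0 < q ^ 2 := pow_pos (by omega) 2
        omega
      rw [hδ]
      calc q * (q ^ 4 - q ^ 2 + 1) ≤ q * q ^ 4 := Nat.mul_le_mul_left _ e
        _ = q ^ 5 := by ring
    have h12 : 2 * (3 * f * (δ / (2 * f))) ≤ 3 * q ^ 5 := by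
      calc 2 * (3 * f * (δ / (2 * f))) = 3 * (2 * f * (δ / (2 * f))) := by ring
        _ ≤ 3 * δ := Nat.mul_le_mul_left _ h5
        _ ≤ 3 * q ^ 5 := Nat.mul_le_mul_left _ h9
    generalize 3 * f * (δ / (2 * f)) = m at h12 ⊢
    have h13 : (2 * m) ^ 2 ≤ (3 * q ^ 5) ^ 2 := Nat.pow_le_pow_left h12 2
    have h14 : 2 * (2 * m ^ 2) ≤ 9 * q ^ 10 := by
      calc 2 * (2 * m ^ 2) = (2 * m) ^ 2 := by ring
        _ ≤ (3 * q ^ 5) ^ 2 := h13
        _ = 9 * q ^ 10 := by ring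
    have h15 : 9 * q ^ 10 ≤ q ^ 12 := by
      calc 9 * q ^ 10 = 3 ^ 2 * q ^ 10 := by norm_num
        _ ≤ q ^ 2 * q ^ 10 := Nat.mul_le_mul_right _ (Nat.pow_le_pow_left hq2 2)
        _ = q ^ 12 := by ring
    have h16 : 0 < q ^ 12 := pow_pos (by omega) 12
    omega

/-- **`Ord` for all `³D₄(q)`.** -/
theorem ord_3D4 {T : Type u} [Group T] (h : Lie.Iso3D4 T) : H384.Cyc.Ord T := by
  obtain ⟨K, _, _, q, hq, hK, ⟨e⟩⟩ := h
  by_cases h2 : q = 2
  · subst h2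
    exact (ord_two hK).congr e.symm
  by_cases h4 : q = 4
  · subst h4
    exact (ord_four hK).congr e.symm
  obtain ⟨p, f, hp, hf, rfl⟩ := hq
  exact (ord_gen hp.nat_prime hf hK h2 h4).congr e.symm

end Cfsg.Agent.H872.TD4
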