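import Cfsg.Agent.H872.TD4.Order

/-!
# TEAM TWOCYC (S3507), row `³D₄(q)`: arithmetic (helper872)
-/

set_option autoImplicit false

namespace Cfsg.Agent.H872.TD4

theorem ob_two {n : ℕ} (h : OB 2 2 n) : n ≤ 28 := by
  unfold OB at h
  norm_num at h
  rcases h with h | h | h | h | h | h | h | h <;>
  · have := Nat.le_of_dvd (by norm_num) h
    omega

theorem ob_four {n : ℕ} (h : OB 2 4 n) : n ≤ 315 := by
  unfold OB at h
  norm_num at h
  rcases h with h | h | h | h | h | h | h | h <;>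
  · have := Nat.le_of_dvd (by norm_num) h
    omega

/-- `2 f ≤ q - 1` -/
theorem two_mul_le {p f : ℕ} (hp : p.Prime) (hf : 0 < f) (h2 : p ^ f ≠ 2) (h4 : p ^ f ≠ 4) : 2 * f + 1 ≤ p ^ f := by
  rcases Nat.lt_or_ge f 3 with h | h
  · have h2p := hp.two_le
    interval_cases f
    · rw [pow_one] at h2 ⊢
      have : p ≠ 2 := h2
      omega
    · have h3 : p ≠ 2 := by rintro rfl; exact h4 rfl
      have h5 : 3 ≤ p := by omega
      nlinarith
  · have h5 : 2 ^ f ≤ p ^ f := Nat.pow_le_pow_left hp.two_le f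
    refine le_trans ?_ h5
    clear h5 h2 h4
    induction f, h using Nat.le_induction with
    | base => norm_num
    | succ n hn ih =>
      have h6 := ih (by omega)
      rw [pow_succ]
      omega

theorem ob_le_aux {p f q n : ℕ} (hp2 : 2 ≤ p) (hf : 0 < f) (hb : 2 * f + 1 ≤ q) (hpq : p ≤ q)
    (hf1 : f = 1 ∧ q = p ∨ 2 * p ≤ q ∧ p * p ≤ q) (h4 : q ≠ 4) (h : OB p q n) :
    2 * f * n ≤ q * (q ^ 4 - q ^ 2 + 1) := by
  have hq3 : 3 ≤ q := by omega
  have hpow : ∀ m, 0 < q ^ m := fun m => pow_pos (by omega) m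
  have h24 : q ^ 2 ≤ q ^ 4 := Nat.pow_le_pow_right (by omega) (by norm_num)
  have e0 : q * (q ^ 4 - q ^ 2 + 1) + q ^ 3 = q ^ 5 + q := by
    obtain ⟨d, hd⟩ : ∃ d, q ^ 4 = q ^ 2 + d := ⟨q ^ 4 - q ^ 2, by omega⟩
    have : q ^ 5 = q * (q ^ 2 + d) := by rw [← hd]; ring
    rw [this, hd, Nat.add_sub_cancel_left]
    ring
  have h45 : 3 * q ^ 4 ≤ q ^ 5 := by rw [pow_succ q 4, mul_comm]; exact Nat.mul_le_mul_left _ hq3
  have h34 : 3 * q ^ 3 ≤ q ^ 4 := by rw [pow_succ q 3, mul_comm]; exact Nat.mul_le_mul_left _ hq3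
  have h23 : 3 * q ^ 2 ≤ q ^ 3 := by rw [pow_succ q 2, mul_comm]; exact Nat.mul_le_mul_left _ hq3
  have h12 : 3 * q ≤ q ^ 2 := by rw [pow_two]; exact Nat.mul_le_mul_right _ hq3
  have hg : 2 * f ≤ q - 1 := by omega
  have key : ∀ B : ℕ, 0 < B → n ∣ B → 2 * f * B + q ^ 3 ≤ q ^ 5 + q → 2 * f * n ≤ q * (q ^ 4 - q ^ 2 + 1) := by
    intro B hB hd h5
    have h6 := Nat.le_of_dvd hB hd
    have h7 : 2 * f * n ≤ 2 * f * B := Nat.mul_le_mul_left _ h6
    omega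
  obtain ⟨c, hc⟩ : ∃ c, q = c + 1 := ⟨q - 1, by omega⟩
  have hqc : q - 1 = c := by omega
  -- from `2 f ≤ q - 1`
  have key2 : ∀ B : ℕ, 0 < B → n ∣ B → (q - 1) * B + q ^ 3 ≤ q ^ 5 + q → 2 * f * n ≤ q * (q ^ 4 - q ^ 2 + 1) := by
    intro B hB hd h5
    refine key B hB hd ?_
    have h7 : 2 * f * B ≤ (q - 1) * B := Nat.mul_le_mul_right _ hg
    omega
  have e1 : q ^ 3 - 1 = (q - 1) * (q ^ 2 + q + 1) := by
    rw [hqc, hc]
    apply Nat.sub_eq_of_eq_add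
    ring
  rcases h with h | h | h | h | h | h | ⟨h, h'⟩ | ⟨h, h'⟩
  · refine key2 _ ?_ h ?_
    · have : 0 < q ^ 3 - 1 := by have := hpow 2; omega
      exact Nat.mul_pos this (by omega)
    · rw [e1, hqc, hc]
      nlinarith [sq_nonneg c]
  · refine key2 _ ?_ h ?_
    · exact Nat.mul_pos (by omega) (by omega)
    · rw [hqc, hc]
      have : 2 ≤ c := by omega
      nlinarith [sq_nonneg c, mul_self_nonneg (c ^ 2), pow_pos (show 0 < c by omega) 3, pow_pos (show 0 < c by omega) 4]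
  · refine key2 _ (by omega) h ?_
    have : (q - 1) * (q ^ 4 - q ^ 2 + 1) ≤ q * (q ^ 4 - q ^ 2 + 1) := Nat.mul_le_mul_right _ (by omega)
    omega
  · refine key2 _ (pow_pos (by omega) 3) h ?_
    have h5 : p ^ 3 ≤ q ^ 3 := Nat.pow_le_pow_left hpq 3
    have h6 : (q - 1) * p ^ 3 ≤ (q - 1) * q ^ 3 := Nat.mul_le_mul_left _ h5
    have h7 : (q - 1) * q ^ 3 + q ^ 3 = q ^ 4 := by rw [hqc, hc]; ring
    omega
  · have h0 : 0 < q ^ 3 - 1 := by have := hpow 2; omega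
    refine key _ (Nat.mul_pos (by omega) h0) h ?_
    rcases hf1 with ⟨h5, h5'⟩ | ⟨h5, -⟩
    · rw [h5, ← h5']
      have h6 : q * (q ^ 3 - 1) ≤ q ^ 4 := by
        calc q * (q ^ 3 - 1) ≤ q * q ^ 3 := Nat.mul_le_mul_left _ (by omega)
          _ = q ^ 4 := by ring
      omega
    · have h6 : 2 * (2 * f * (p * (q ^ 3 - 1))) ≤ (q - 1) * (q * (q ^ 3 - 1)) := by
        calc 2 * (2 * f * (p * (q ^ 3 - 1))) = 2 * f * (2 * p * (q ^ 3 - 1)) := by ring
          _ ≤ (q - 1) * (q * (q ^ 3 - 1)) := Nat.mul_le_mul hg (Nat.mul_le_mul_right _ h5)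
      have h7 : (q - 1) * (q * (q ^ 3 - 1)) ≤ q ^ 5 := by
        calc (q - 1) * (q * (q ^ 3 - 1)) ≤ q * (q * q ^ 3) :=
              Nat.mul_le_mul (by omega) (Nat.mul_le_mul_left _ (by omega))
          _ = q ^ 5 := by ring
      omega
  · refine key _ (by positivity) h ?_
    rcases hf1 with ⟨h5, h5'⟩ | ⟨h5, -⟩
    · rw [h5, ← h5']
      have h6 : q * (q ^ 3 + 1) = q ^ 4 + q := by ring
      omega
    · have h6 : 2 * (2 * f * (p * (q ^ 3 + 1))) ≤ (q - 1) * (q * (q ^ 3 + 1)) := by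
        calc 2 * (2 * f * (p * (q ^ 3 + 1))) = 2 * f * (2 * p * (q ^ 3 + 1)) := by ring
          _ ≤ (q - 1) * (q * (q ^ 3 + 1)) := Nat.mul_le_mul hg (Nat.mul_le_mul_right _ h5)
      have h7 : (q - 1) * (q * (q ^ 3 + 1)) + (q ^ 4 + q) = q ^ 5 + q ^ 2 := by
        rw [hqc, hc]; ring
      omega
  · by_cases h3 : p = 3
    · refine key2 _ (by positivity) (h' h3) ?_
      have h6 : (q - 1) * (3 * (q ^ 2 + q + 1)) = 3 * (q ^ 3 - 1) := by rw [e1]; ring
      omega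
    · rcases hf1 with ⟨h5, h5'⟩ | ⟨-, h5⟩
      · refine key _ (by positivity) h ?_
        rw [h5, ← h5']
        have hq5 : 5 ≤ q := by omega
        have h55 : 5 * q ^ 4 ≤ q ^ 5 := by rw [pow_succ q 4, mul_comm]; exact Nat.mul_le_mul_left _ hq5
        have h6 : q * q * (q ^ 2 + q + 1) = q ^ 4 + q ^ 3 + q ^ 2 := by ring
        omega
      · refine key2 _ (by positivity) h ?_
        have h6 : (q - 1) * (p * p * (q ^ 2 + q + 1)) ≤ q * (q ^ 3 - 1) := by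
          calc (q - 1) * (p * p * (q ^ 2 + q + 1)) = p * p * ((q - 1) * (q ^ 2 + q + 1)) := by ring
            _ = p * p * (q ^ 3 - 1) := by rw [e1]
            _ ≤ q * (q ^ 3 - 1) := Nat.mul_le_mul_right _ h5
        have h7 : q * (q ^ 3 - 1) ≤ q ^ 4 := by
          calc q * (q ^ 3 - 1) ≤ q * q ^ 3 := Nat.mul_le_mul_left _ (by omega)
            _ = q ^ 4 := by ring
        omega
  · have h8 : q ^ 2 - q + 1 ≤ q ^ 2 + q + 1 := by omega
    by_cases h3 : p = 3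
    · refine key2 _ (by positivity) (h' h3) ?_
      have h6 : (q - 1) * (3 * (q ^ 2 - q + 1)) ≤ 3 * (q ^ 3 - 1) := by
        rw [e1]
        calc (q - 1) * (3 * (q ^ 2 - q + 1)) ≤ (q - 1) * (3 * (q ^ 2 + q + 1)) :=
              Nat.mul_le_mul_left _ (Nat.mul_le_mul_left _ h8)
          _ = 3 * ((q - 1) * (q ^ 2 + q + 1)) := by ring
      omega
    · rcases hf1 with ⟨h5, h5'⟩ | ⟨-, h5⟩
      · refine key _ (Nat.mul_pos (Nat.mul_pos (by omega) (by omega)) (by omega)) h ?_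
        rw [h5, ← h5']
        have hq5 : 5 ≤ q := by omega
        have h55 : 5 * q ^ 4 ≤ q ^ 5 := by rw [pow_succ q 4, mul_comm]; exact Nat.mul_le_mul_left _ hq5
        have h6 : q * q * (q ^ 2 - q + 1) ≤ q * q * (q ^ 2 + q + 1) := Nat.mul_le_mul_left _ h8
        have h7 : q * q * (q ^ 2 + q + 1) = q ^ 4 + q ^ 3 + q ^ 2 := by ring
        omega
      · refine key2 _ (Nat.mul_pos (Nat.mul_pos (by omega) (by omega)) (by omega)) h ?_
        have h6 : (q - 1) * (p * p * (q ^ 2 - q + 1)) ≤ q * (q ^ 3 - 1) := by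
          calc (q - 1) * (p * p * (q ^ 2 - q + 1)) ≤ (q - 1) * (p * p * (q ^ 2 + q + 1)) :=
                Nat.mul_le_mul_left _ (Nat.mul_le_mul_left _ h8)
            _ = p * p * ((q - 1) * (q ^ 2 + q + 1)) := by ring
            _ = p * p * (q ^ 3 - 1) := by rw [e1]
            _ ≤ q * (q ^ 3 - 1) := Nat.mul_le_mul_right _ h5
        have h7 : q * (q ^ 3 - 1) ≤ q ^ 4 := by
          calc q * (q ^ 3 - 1) ≤ q * q ^ 3 := Nat.mul_le_mul_left _ (by omega)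
            _ = q ^ 4 := by ring
        omega

/-- **The bound.** -/
theorem ob_le {p f n : ℕ} (hp : p.Prime) (hf : 0 < f) (h2 : p ^ f ≠ 2) (h4 : p ^ f ≠ 4) (h : OB p (p ^ f) n) :
    2 * f * n ≤ p ^ f * ((p ^ f) ^ 4 - (p ^ f) ^ 2 + 1) := by
  refine ob_le_aux hp.two_le hf (two_mul_le hp hf h2 h4) (Nat.le_self_pow hf.ne' p) ?_ h4 h
  rcases Nat.lt_or_ge f 2 with h5 | h5
  · left
    have : f = 1 := by omega
    exact ⟨this, by rw [this, pow_one]⟩
  · right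
    have h6 : p ^ 2 ≤ p ^ f := Nat.pow_le_pow_right hp.pos h5
    rw [pow_two] at h6
    exact ⟨(Nat.mul_le_mul_right p hp.two_le).trans h6, h6⟩

end Cfsg.Agent.H872.TD4
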