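import Cfsg.Agent.H872.TD4.Order
import Cfsg.Agent.H967.FaTw
import Cfsg.Agent.H384.Cyc.Tools
import Cfsg.Agent.H166.FieldAut

/-!
# TEAM TWOCYC (S3507), row `³D₄(q)`: automorphisms (helper872)

* `exists_conj_field` : every automorphism of `³D₄(q)` is inner times a field automorphism;
* `index_inn` : `|Out| = 3 f`, `q = p ^ f`;
* `ob_descend` : `q = p ^ 2`; an element `x` of `³D₄(q)` with `g τ(x) g⁻¹ = x`, `τ` the inverse of the Frobenius
  automorphism `a ↦ a ^ p`, has the order of an element of `³D₄(p)`.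
-/

set_option autoImplicit false
set_option linter.unusedSectionVars false

namespace Cfsg.Agent.H872.TD4

open Cfsg Cfsg.Lie Cfsg.Lie.ChevalleyDatum
open Cfsg.Agent.ChevalleyStructure
open Cfsg.Agent.H129.TriD4 Cfsg.Agent.BpExc.TowChev Cfsg.Agent.H378
open Cfsg.Agent.H967.CopMat Cfsg.Agent.H967.CopTw
open Cfsg.Agent.GpExc.Field (glMap emb coe_emb)

universe u

section Out

variable {K : Type u} [Field K] [Fintype K] {q : ℕ}

theorem exists_conj_field (hq : IsPrimePow q) (hK : Fintype.card K = q ^ 3) (ψ : MulAut ↥(twistedD4 K q)) :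
    ∃ (g : ↥(twistedD4 K q)) (σ : K ≃+* K), ψ = MulAut.conj g * fieldAut (stab_d4 q) σ := by
  obtain ⟨p, hp⟩ := CharP.exists K
  have : Fact p.Prime := ⟨CharP.char_is_prime K p⟩
  let F : (K ≃+* K) →* Cfsg.Out ↥(twistedD4 K q) :=
    (QuotientGroup.mk' (Cfsg.Inn ↥(twistedD4 K q))).comp (fieldAut (stab_d4 q))
  have hinj : Function.Injective F := by
    rw [injective_iff_map_eq_one]
    intro σ hσ
    by_contra h1
    exact H967.FaTw.not_inner_d4 hq hK σ h1 ((QuotientGroup.eq_one_iff _).1 hσ)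
  have hcard : Nat.card (Cfsg.Out ↥(twistedD4 K q)) = Nat.card (K ≃+* K) := H69.OutTwD4.card_out hq hK p
  have hfin : Finite (K ≃+* K) := Finite.of_injective (fun f : K ≃+* K => (f : K → K)) DFunLike.coe_injective
  have hfinA : Finite (MulAut ↥(twistedD4 K q)) :=
    Finite.of_injective (fun α : MulAut ↥(twistedD4 K q) => (α : ↥(twistedD4 K q) → ↥(twistedD4 K q)))
      DFunLike.coe_injective
  have hfO : Finite (Cfsg.Out ↥(twistedD4 K q)) := inferInstance
  have hs : Function.Surjective F := ((Nat.bijective_iff_injective_and_card F).2 ⟨hinj, hcard.symm⟩).2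
  obtain ⟨σ, hσ⟩ := hs (QuotientGroup.mk' _ ψ)
  have h1 : (fieldAut (stab_d4 q) σ)⁻¹ * ψ ∈ Cfsg.Inn ↥(twistedD4 K q) := QuotientGroup.eq.1 hσ
  obtain ⟨g, hg⟩ := h1
  refine ⟨fieldAut (stab_d4 q) σ g, σ, ?_⟩
  have h2 : ψ = fieldAut (stab_d4 q) σ * MulAut.conj g := by rw [hg, mul_inv_cancel_left]
  rw [h2]
  ext1 y
  show fieldAut (stab_d4 q) σ (g * y * g⁻¹) = fieldAut (stab_d4 q) σ g * fieldAut (stab_d4 q) σ y *
    (fieldAut (stab_d4 q) σ g)⁻¹
  rw [map_mul, map_mul, map_inv]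

theorem index_inn {p f : ℕ} (hp : p.Prime) (hf : 0 < f) (hK : Fintype.card K = (p ^ f) ^ 3) :
    (MulAut.conj : ↥(twistedD4 K (p ^ f)) →* MulAut ↥(twistedD4 K (p ^ f))).range.index = 3 * f := by
  have : Fact p.Prime := ⟨hp⟩
  have hc : CharP K p := by
    refine H967.CopSz.charP_of_card hp (n := f * 3) ?_
    rw [hK, ← pow_mul]
  have h1 : Nat.card (Cfsg.Out ↥(twistedD4 K (p ^ f))) = 3 * f := by
    rw [H69.OutTwD4.card_out (hp.isPrimePow.pow hf.ne') hK p, H166.FieldAut.card_ringAut p (3 * f)]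
    rw [hK, ← pow_mul, mul_comm]
  exact h1

end Out

section Descend

variable {K : Type u} [Field K] [Fintype K]

theorem sig_glMap {k : Type u} [Field k] (φ ψ : k →+* k) (g : GL chevD4.Idx k) :
    D4Fixed.sig φ (glMap chevD4 ψ g) = D4Fixed.sig (φ.comp ψ) g := by
  apply Units.ext
  rw [D4Fixed.coe_sig, D4Fixed.coe_sig]
  rfl

/-- **Descent.** -/
theorem ob_descend {p : ℕ} (hp : p.Prime) {q : ℕ} (hqp : q = p ^ 2) (hq : IsPrimePow q)
    (hK : Fintype.card K = q ^ 3) {τ : K ≃+* K} (hτ : ∀ a, τ a ^ p = a) {g x : ↥(twistedD4 K q)}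
    (hx : g * fieldAut (stab_d4 q) τ x * g⁻¹ = x) : OB p p (orderOf x) := by
  obtain ⟨k, _, _, f, p', _, hC, _, hk, hka, -, -⟩ := TorFin.exists_closure K
  have hp' : p'.Prime := Fact.out
  have hK' : CharP K p' := (RingHom.charP_iff f f.injective p').2 hC
  have hpp : p = p' := by
    obtain ⟨n, hp1, hn⟩ := FiniteField.card K p'
    have h1 : p ∣ p' ^ (n : ℕ) := by
      rw [← hn, hK, hqp]
      exact dvd_pow (dvd_pow_self p (by norm_num)) (by norm_num)
    exact (Nat.prime_dvd_prime_iff_eq hp hp').1 (hp.dvd_of_dvd_pow h1)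
  subst hpp
  have hx1 := tau_embT (k := k) (p := p) (e := 2) f hqp hq hK (fieldAut (stab_d4 q) τ x)
  -- `tau k p 1` acts as `τ`
  have h1 : tau k p 1 (embT f hq hK x) = embT f hq hK (fieldAut (stab_d4 q) τ x) := by
    rw [← hx1]
    apply Subtype.ext
    rw [coe_tau, coe_tau, coe_embT, coe_embT]
    have h2 : glMap chevD4 f (x : GL chevD4.Idx K) =
        glMap chevD4 (iterateFrobenius k p 1) (glMap chevD4 f (fieldAut (stab_d4 q) τ x : ↥(twistedD4 K q))) := by
      apply Units.ext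
      ext i j
      show f ((x : GL chevD4.Idx K) i j) = iterateFrobenius k p 1 (f (τ ((x : GL chevD4.Idx K) i j)))
      rw [iterateFrobenius_def, pow_one, ← map_pow, hτ]
    rw [h2, sig_glMap]
    have h3 : (iterateFrobenius k p 1).comp (iterateFrobenius k p 1) = iterateFrobenius k p 2 := by
      ext a
      rw [RingHom.comp_apply, iterateFrobenius_def, iterateFrobenius_def, iterateFrobenius_def, ← pow_mul, pow_one,
        pow_two]
    rw [h3]
  obtain ⟨z, hz⟩ := BpExc.LangFr.lang_all Nodes.RGDTwD4.hp coxeterD4.toCoxeterSystem (e := 1) one_pos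
    (isFrob_tau (k := k) (p := p)) (fr_tau coxeterD4.toCoxeterSystem) 1 (embT f hq hK g)
  rw [map_one, one_mul] at hz
  have h4 : embT f hq hK g * tau k p 1 (embT f hq hK x) * (embT f hq hK g)⁻¹ = embT f hq hK x := by
    rw [h1, ← map_mul, ← map_inv, ← map_mul, hx]
  have h5 : tau k p 1 (z * embT f hq hK x * z⁻¹) = z * embT f hq hK x * z⁻¹ := by
    rw [map_mul, map_mul, map_inv]
    rw [hz] at h4
    calc tau k p 1 z * tau k p 1 (embT f hq hK x) * (tau k p 1 z)⁻¹
        = z * (z⁻¹ * tau k p 1 z * tau k p 1 (embT f hq hK x) * (z⁻¹ * tau k p 1 z)⁻¹) * z⁻¹ := by group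
      _ = _ := by rw [h4]
  have h6 : orderOf (z * embT f hq hK x * z⁻¹) = orderOf x := by
    have h7 := orderOf_injective (MulAut.conj z).toMonoidHom (MulAut.conj z).injective (embT f hq hK x)
    rw [MulEquiv.coe_toMonoidHom, MulAut.conj_apply] at h7
    rw [h7, orderOf_injective _ (embT_injective f hq hK)]
  have h8 := ob_tau (e := 1) hk hka one_pos h5 (by rw [h6]; exact (orderOf_pos x).ne')
  rw [h6, pow_one] at h8
  exact h8

end Descend

end Cfsg.Agent.H872.TD4
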