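import Cfsg.Agent.SplitTwo.HexDefs
import Cfsg.Agent.H384.LargeIdx

/-!
# TEAM TWOCYC (S3507), row `³D₄(2)`: the extraspecial subgroup from the hexagonal relations (helper872)

`HexPar` over a field `E` with an automorphism `σ` whose fixed field is `{0, 1}`:

* `QQ` : the join of the root groups `X 2, …, X 6`; `nf` : normal forms; `card_QQ` : `|QQ| ≥ 2 |E|² · 4`;
* `large` : `QQ` is extraspecial with centre `⟨x₄(1)⟩`; `index_le` : a subgroup `A` of `QQ` not containing `x₄(1)` has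
  `|QQ : A|² ≥ 2 |QQ|`;
* `x2_mem` : a subgroup `B ≤ QQ` normalised by `X 1`, containing `x₄(1)` and another element, contains `x₂(1)`.
-/

set_option autoImplicit false
set_option linter.unusedSectionVars false

namespace Cfsg.Agent.H872.TD4.Hex

open Cfsg.Agent.SplitTwo Cfsg.Agent.Co2Type.Quad

universe u v

variable {G : Type u} [Group G] {E : Type v} [Field E] {σ : E ≃+* E} {X : ZMod (2 * 6) → Subgroup G}
  {x1 x2 x3 x4 x5 x6 : E → G}

/-- the data -/
structure HD (σ : E ≃+* E) (X : ZMod (2 * 6) → Subgroup G) (x1 x2 x3 x4 x5 x6 : E → G) : Prop where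
  par : HexPar σ X x1 x2 x3 x4 x5 x6
  fix : ∀ a, σ a = a → a = 0 ∨ a = 1
  trc : ∀ b, b ≠ 0 → ∃ s, SplitTwo.trc σ s b = 1
  crs : ∀ b, b ≠ 0 → ∃ s, SplitTwo.crs σ s b ≠ 0

theorem mul_of_kk {a b c : G} (h : kk a b = c) : a * b = b * a * c := by
  rw [← h]; unfold kk; group

theorem comm_of_kk {a b : G} (h : kk a b = 1) : Commute a b := by
  have := mul_of_kk h
  rwa [mul_one] at this

namespace HD

variable (H : HD σ X x1 x2 x3 x4 x5 x6)

include H

theorem two : (1 : E) + 1 = 0 := by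
  rcases H.fix (1 + 1) (by rw [map_add, map_one]) with h | h
  · exact h
  · exact absurd (add_eq_left.1 h) one_ne_zero

theorem add_self (a : E) : a + a = 0 := by
  have : a + a = a * (1 + 1) := by ring
  rw [this, H.two, mul_zero]

theorem neg_eq (a : E) : -a = a := by
  rw [neg_eq_iff_add_eq_zero]; exact H.add_self a

theorem σ0 : σ (0 : E) = 0 := map_zero σ
theorem σ1 : σ (1 : E) = 1 := map_one σ

theorem σadd {a b : E} (ha : σ a = a) (hb : σ b = b) : σ (a + b) = a + b := by rw [map_add, ha, hb]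

theorem σtrc (a b : E) : σ (SplitTwo.trc σ a b) = SplitTwo.trc σ a b := by
  unfold SplitTwo.trc
  rw [map_add, map_add, H.par.rel.cube]; ring

theorem σnrm (a : E) : σ (SplitTwo.nrm σ a) = SplitTwo.nrm σ a := by
  unfold SplitTwo.nrm
  rw [map_mul, map_mul, H.par.rel.cube]; ring

theorem x2_zero : x2 0 = 1 := by
  have := H.par.rel.add2 0 0 H.σ0 H.σ0
  rw [add_zero] at this
  exact left_eq_mul.1 this
theorem x3_zero : x3 0 = 1 := by
  have := H.par.rel.add3 0 0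
  rw [add_zero] at this
  exact left_eq_mul.1 this
theorem x4_zero : x4 0 = 1 := by
  have := H.par.rel.add4 0 0 H.σ0 H.σ0
  rw [add_zero] at this
  exact left_eq_mul.1 this
theorem x5_zero : x5 0 = 1 := by
  have := H.par.rel.add5 0 0
  rw [add_zero] at this
  exact left_eq_mul.1 this
theorem x6_zero : x6 0 = 1 := by
  have := H.par.rel.add6 0 0 H.σ0 H.σ0
  rw [add_zero] at this
  exact left_eq_mul.1 this
theorem x1_zero : x1 0 = 1 := by
  have := H.par.rel.add1 0 0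
  rw [add_zero] at this
  exact left_eq_mul.1 this

theorem x2_sq {a : E} (ha : σ a = a) : x2 a * x2 a = 1 := by
  rw [← H.par.rel.add2 a a ha ha, H.add_self, H.x2_zero]
theorem x3_sq (a : E) : x3 a * x3 a = 1 := by rw [← H.par.rel.add3, H.add_self, H.x3_zero]
theorem x4_sq {a : E} (ha : σ a = a) : x4 a * x4 a = 1 := by
  rw [← H.par.rel.add4 a a ha ha, H.add_self, H.x4_zero]
theorem x5_sq (a : E) : x5 a * x5 a = 1 := by rw [← H.par.rel.add5, H.add_self, H.x5_zero]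
theorem x6_sq {a : E} (ha : σ a = a) : x6 a * x6 a = 1 := by
  rw [← H.par.rel.add6 a a ha ha, H.add_self, H.x6_zero]
theorem x1_sq (a : E) : x1 a * x1 a = 1 := by rw [← H.par.rel.add1, H.add_self, H.x1_zero]

theorem z_ne : x4 1 ≠ 1 := by
  rw [← H.x4_zero]
  exact fun h => one_ne_zero (H.par.inj4 1 0 H.σ1 H.σ0 h)

theorem zz : x4 1 * x4 1 = 1 := H.x4_sq H.σ1

theorem x4_cases {a : E} (ha : σ a = a) : x4 a = 1 ∨ x4 a = x4 1 := by
  rcases H.fix a ha with rfl | rfl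
  · exact Or.inl H.x4_zero
  · exact Or.inr rfl

/-! commutation -/

theorem c4 {a b : E} (ha : σ a = a) (hb : σ b = b) : Commute (x4 a) (x4 b) := by
  show x4 a * x4 b = x4 b * x4 a
  rw [← H.par.rel.add4 a b ha hb, ← H.par.rel.add4 b a hb ha, add_comm]
theorem c3 (a b : E) : Commute (x3 a) (x3 b) := by
  show x3 a * x3 b = x3 b * x3 a
  rw [← H.par.rel.add3, ← H.par.rel.add3, add_comm]
theorem c5 (a b : E) : Commute (x5 a) (x5 b) := by
  show x5 a * x5 b = x5 b * x5 a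
  rw [← H.par.rel.add5, ← H.par.rel.add5, add_comm]
theorem c2 {a b : E} (ha : σ a = a) (hb : σ b = b) : Commute (x2 a) (x2 b) := by
  show x2 a * x2 b = x2 b * x2 a
  rw [← H.par.rel.add2 a b ha hb, ← H.par.rel.add2 b a hb ha, add_comm]
theorem c6 {a b : E} (ha : σ a = a) (hb : σ b = b) : Commute (x6 a) (x6 b) := by
  show x6 a * x6 b = x6 b * x6 a
  rw [← H.par.rel.add6 a b ha hb, ← H.par.rel.add6 b a hb ha, add_comm]
theorem c23 {t a : E} (ht : σ t = t) : Commute (x2 t) (x3 a) := comm_of_kk (H.par.rel.c23 t a ht)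
theorem c24 {t u : E} (ht : σ t = t) (hu : σ u = u) : Commute (x2 t) (x4 u) :=
  comm_of_kk (H.par.rel.c24 t u ht hu)
theorem c25 {t a : E} (ht : σ t = t) : Commute (x2 t) (x5 a) := comm_of_kk (H.par.rel.c25 t a ht)
theorem c34 {a t : E} (ht : σ t = t) : Commute (x3 a) (x4 t) := comm_of_kk (H.par.rel.c34 a t ht)
theorem c36 {a t : E} (ht : σ t = t) : Commute (x3 a) (x6 t) := comm_of_kk (H.par.rel.c36 a t ht)
theorem c45 {t a : E} (ht : σ t = t) : Commute (x4 t) (x5 a) := comm_of_kk (H.par.rel.c45 t a ht)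
theorem c46 {t u : E} (ht : σ t = t) (hu : σ u = u) : Commute (x4 t) (x6 u) :=
  comm_of_kk (H.par.rel.c46 t u ht hu)
theorem c56 {a t : E} (ht : σ t = t) : Commute (x5 a) (x6 t) := comm_of_kk (H.par.rel.c56 a t ht)
theorem c12 {a t : E} (ht : σ t = t) : Commute (x1 a) (x2 t) := comm_of_kk (H.par.rel.c12 a t ht)
theorem c14 {a t : E} (ht : σ t = t) : Commute (x1 a) (x4 t) := comm_of_kk (H.par.rel.c14 a t ht)

/-- `x₆ x₂ = x₂ x₆ x₄` -/
theorem m62 {t u : E} (ht : σ t = t) (hu : σ u = u) : x6 u * x2 t = x2 t * x6 u * x4 (t * u) := by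
  have h1 := mul_of_kk (H.par.rel.c26 t u ht hu)
  have htu : σ (t * u) = t * u := by rw [map_mul, ht, hu]
  rw [h1, mul_assoc, H.x4_sq htu, mul_one]

theorem m53 (a b : E) : x5 b * x3 a = x3 a * x5 b * x4 (SplitTwo.trc σ a b) := by
  have h1 := mul_of_kk (H.par.rel.c35 a b)
  rw [h1, mul_assoc, H.x4_sq (H.σtrc a b), mul_one]

/-! ### normal forms -/

theorem n2 {a c e t : E} (b d : E) (ha : σ a = a) (hc : σ c = c) (he : σ e = e) (ht : σ t = t) :
    x2 a * x3 b * x4 c * x5 d * x6 e * x2 t = x2 (a + t) * x3 b * x4 (c + t * e) * x5 d * x6 e := by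
  have hte : σ (t * e) = t * e := by rw [map_mul, ht, he]
  rw [H.par.rel.add2 a t ha ht, H.par.rel.add4 c _ hc hte]
  have e1 := H.m62 ht he
  have e2 := (H.c25 (a := d) ht).eq
  have e3 := (H.c24 ht hc).eq
  have e4 := (H.c23 (a := b) ht).eq
  have e5 := (H.c45 (a := d) hte).eq
  have e6 := (H.c46 hte he).eq
  calc x2 a * x3 b * x4 c * x5 d * x6 e * x2 t = x2 a * x3 b * x4 c * x5 d * (x6 e * x2 t) := by group
    _ = x2 a * x3 b * x4 c * (x5 d * x2 t) * x6 e * x4 (t * e) := by rw [e1]; group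
    _ = x2 a * x3 b * (x4 c * x2 t) * x5 d * x6 e * x4 (t * e) := by rw [← e2]; group
    _ = x2 a * (x3 b * x2 t) * x4 c * x5 d * x6 e * x4 (t * e) := by rw [← e3]; group
    _ = x2 a * x2 t * x3 b * x4 c * x5 d * (x6 e * x4 (t * e)) := by rw [← e4]; group
    _ = x2 a * x2 t * x3 b * x4 c * (x5 d * x4 (t * e)) * x6 e := by rw [← e6]; group
    _ = _ := by rw [← e5]; group

theorem n3 {c e : E} (a b d t : E) (hc : σ c = c) (he : σ e = e) :
    x2 a * x3 b * x4 c * x5 d * x6 e * x3 t = x2 a * x3 (b + t) * x4 (c + SplitTwo.trc σ t d) * x5 d * x6 e := by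
  have hte := H.σtrc t d
  rw [H.par.rel.add3, H.par.rel.add4 c _ hc hte]
  have e1 := (H.c36 (a := t) he).eq
  have e2 := H.m53 t d
  have e3 := (H.c34 (a := t) hc).eq
  have e5 := (H.c45 (a := d) hte).eq
  calc x2 a * x3 b * x4 c * x5 d * x6 e * x3 t = x2 a * x3 b * x4 c * x5 d * (x6 e * x3 t) := by group
    _ = x2 a * x3 b * x4 c * (x5 d * x3 t) * x6 e := by rw [← e1]; group
    _ = x2 a * x3 b * (x4 c * x3 t) * (x5 d * x4 (SplitTwo.trc σ t d)) * x6 e := by rw [e2]; group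
    _ = _ := by rw [← e3, ← e5]; group

theorem n4 {c e t : E} (a b d : E) (hc : σ c = c) (he : σ e = e) (ht : σ t = t) :
    x2 a * x3 b * x4 c * x5 d * x6 e * x4 t = x2 a * x3 b * x4 (c + t) * x5 d * x6 e := by
  rw [H.par.rel.add4 c _ hc ht]
  have e1 := (H.c46 ht he).eq
  have e2 := (H.c45 (a := d) ht).eq
  calc x2 a * x3 b * x4 c * x5 d * x6 e * x4 t = x2 a * x3 b * x4 c * x5 d * (x6 e * x4 t) := by group
    _ = x2 a * x3 b * x4 c * (x5 d * x4 t) * x6 e := by rw [← e1]; group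
    _ = _ := by rw [← e2]; group

theorem n5 {e : E} (a b c d t : E) (he : σ e = e) :
    x2 a * x3 b * x4 c * x5 d * x6 e * x5 t = x2 a * x3 b * x4 c * x5 (d + t) * x6 e := by
  rw [H.par.rel.add5]
  have e1 := (H.c56 (a := t) he).eq
  calc x2 a * x3 b * x4 c * x5 d * x6 e * x5 t = x2 a * x3 b * x4 c * x5 d * (x6 e * x5 t) := by group
    _ = _ := by rw [← e1]; group

theorem n6 {e t : E} (a b c d : E) (he : σ e = e) (ht : σ t = t) :
    x2 a * x3 b * x4 c * x5 d * x6 e * x6 t = x2 a * x3 b * x4 c * x5 d * x6 (e + t) := by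
  rw [H.par.rel.add6 e t he ht]
  group

/-- **Multiplication of normal forms.** -/
theorem nmul {a c e a' c' e' : E} (b d b' d' : E) (ha : σ a = a) (hc : σ c = c) (he : σ e = e) (ha' : σ a' = a')
    (hc' : σ c' = c') (he' : σ e' = e') :
    x2 a * x3 b * x4 c * x5 d * x6 e * (x2 a' * x3 b' * x4 c' * x5 d' * x6 e') =
      x2 (a + a') * x3 (b + b') * x4 (c + a' * e + SplitTwo.trc σ b' d + c') * x5 (d + d') * x6 (e + e') := by
  have h1 : σ (a' * e) = a' * e := by rw [map_mul, ha', he]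
  have h2 := H.σadd hc h1
  have h3 := H.σadd h2 (H.σtrc b' d)
  calc x2 a * x3 b * x4 c * x5 d * x6 e * (x2 a' * x3 b' * x4 c' * x5 d' * x6 e')
      = x2 a * x3 b * x4 c * x5 d * x6 e * x2 a' * x3 b' * x4 c' * x5 d' * x6 e' := by group
    _ = _ := by rw [H.n2 b d ha hc he ha', H.n3 _ _ _ _ h2 he, H.n4 _ _ _ h3 he hc', H.n5 _ _ _ _ _ he,
      H.n6 _ _ _ _ he he']

/-! ### the group `Q` -/

omit H in
/-- the join of the root groups `X 2, …, X 6` -/
def QQ (X : ZMod (2 * 6) → Subgroup G) : Subgroup G := X 2 ⊔ X 3 ⊔ X 4 ⊔ X 5 ⊔ X 6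

omit H in
theorem X_le (k : ZMod (2 * 6)) (hk : k = 2 ∨ k = 3 ∨ k = 4 ∨ k = 5 ∨ k = 6) : X k ≤ QQ X := by
  unfold QQ
  rcases hk with rfl | rfl | rfl | rfl | rfl
  · exact le_sup_left.trans (le_sup_left.trans (le_sup_left.trans le_sup_left))
  · exact le_sup_right.trans (le_sup_left.trans (le_sup_left.trans le_sup_left))
  · exact le_sup_right.trans (le_sup_left.trans le_sup_left)
  · exact le_sup_right.trans le_sup_left
  · exact le_sup_right

theorem m2 {a : E} (ha : σ a = a) : x2 a ∈ QQ X := X_le 2 (by simp) ((H.par.mem2 _).2 ⟨a, ha, rfl⟩)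
theorem m3 (a : E) : x3 a ∈ QQ X := X_le 3 (by simp) ((H.par.mem3 _).2 ⟨a, rfl⟩)
theorem m4 {a : E} (ha : σ a = a) : x4 a ∈ QQ X := X_le 4 (by simp) ((H.par.mem4 _).2 ⟨a, ha, rfl⟩)
theorem m5 (a : E) : x5 a ∈ QQ X := X_le 5 (by simp) ((H.par.mem5 _).2 ⟨a, rfl⟩)
theorem m6 {a : E} (ha : σ a = a) : x6 a ∈ QQ X := X_le 6 (by simp) ((H.par.mem6 _).2 ⟨a, ha, rfl⟩)

omit H in
theorem QQ_eq : QQ X = Subgroup.closure ((X 2 : Set G) ∪ X 3 ∪ X 4 ∪ X 5 ∪ X 6) := by
  unfold QQ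
  rw [Subgroup.closure_union, Subgroup.closure_union, Subgroup.closure_union, Subgroup.closure_union,
    Subgroup.closure_eq, Subgroup.closure_eq, Subgroup.closure_eq, Subgroup.closure_eq, Subgroup.closure_eq]

theorem gen_cases {g : G} (hg : g ∈ (X 2 : Set G) ∪ X 3 ∪ X 4 ∪ X 5 ∪ X 6) :
    (∃ a, σ a = a ∧ g = x2 a) ∨ (∃ a, g = x3 a) ∨ (∃ a, σ a = a ∧ g = x4 a) ∨ (∃ a, g = x5 a) ∨
      ∃ a, σ a = a ∧ g = x6 a := by
  rcases hg with (((hg | hg) | hg) | hg) | hg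
  · obtain ⟨a, ha, rfl⟩ := (H.par.mem2 g).1 hg; exact Or.inl ⟨a, ha, rfl⟩
  · obtain ⟨a, rfl⟩ := (H.par.mem3 g).1 hg; exact Or.inr (Or.inl ⟨a, rfl⟩)
  · obtain ⟨a, ha, rfl⟩ := (H.par.mem4 g).1 hg; exact Or.inr (Or.inr (Or.inl ⟨a, ha, rfl⟩))
  · obtain ⟨a, rfl⟩ := (H.par.mem5 g).1 hg; exact Or.inr (Or.inr (Or.inr (Or.inl ⟨a, rfl⟩)))
  · obtain ⟨a, ha, rfl⟩ := (H.par.mem6 g).1 hg; exact Or.inr (Or.inr (Or.inr (Or.inr ⟨a, ha, rfl⟩)))

/-- induction over the generators -/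
theorem ind {P : G → Prop} (h1 : P 1) (h2 : ∀ g a, P g → σ a = a → P (g * x2 a)) (h3 : ∀ g a, P g → P (g * x3 a))
    (h4 : ∀ g a, P g → σ a = a → P (g * x4 a)) (h5 : ∀ g a, P g → P (g * x5 a))
    (h6 : ∀ g a, P g → σ a = a → P (g * x6 a)) {g : G} (hg : g ∈ QQ X) : P g := by
  rw [QQ_eq] at hg
  have key : ∀ g y, y ∈ (X 2 : Set G) ∪ X 3 ∪ X 4 ∪ X 5 ∪ X 6 → P g → P (g * y) := by
    intro g y hy hg
    rcases H.gen_cases hy with ⟨a, ha, rfl⟩ | ⟨a, rfl⟩ | ⟨a, ha, rfl⟩ | ⟨a, rfl⟩ | ⟨a, ha, rfl⟩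
    · exact h2 g a hg ha
    · exact h3 g a hg
    · exact h4 g a hg ha
    · exact h5 g a hg
    · exact h6 g a hg ha
  induction hg using Subgroup.closure_induction_right with
  | one => exact h1
  | mul_right x hx y hy ih => exact key x y hy ih
  | mul_inv_cancel x hx y hy ih =>
    refine key x y⁻¹ ?_ ih
    rcases hy with (((hy | hy) | hy) | hy) | hy
    · exact Or.inl (Or.inl (Or.inl (Or.inl (inv_mem hy))))
    · exact Or.inl (Or.inl (Or.inl (Or.inr (inv_mem hy))))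
    · exact Or.inl (Or.inl (Or.inr (inv_mem hy)))
    · exact Or.inl (Or.inr (inv_mem hy))
    · exact Or.inr (inv_mem hy)

/-- **Normal forms.** -/
theorem nf {g : G} (hg : g ∈ QQ X) : ∃ a b c d e, σ a = a ∧ σ c = c ∧ σ e = e ∧
    g = x2 a * x3 b * x4 c * x5 d * x6 e := by
  refine H.ind (P := fun g => ∃ a b c d e, σ a = a ∧ σ c = c ∧ σ e = e ∧ g = x2 a * x3 b * x4 c * x5 d * x6 e)
    ?_ ?_ ?_ ?_ ?_ ?_ hg
  · exact ⟨0, 0, 0, 0, 0, H.σ0, H.σ0, H.σ0, by
      rw [H.x2_zero, H.x3_zero, H.x4_zero, H.x5_zero, H.x6_zero]; group⟩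
  · rintro _ t ⟨a, b, c, d, e, ha, hc, he, rfl⟩ ht
    exact ⟨a + t, b, c + t * e, d, e, H.σadd ha ht, H.σadd hc (by rw [map_mul, ht, he]), he, H.n2 b d ha hc he ht⟩
  · rintro _ t ⟨a, b, c, d, e, ha, hc, he, rfl⟩
    exact ⟨a, b + t, c + SplitTwo.trc σ t d, d, e, ha, H.σadd hc (H.σtrc t d), he, H.n3 a b d t hc he⟩
  · rintro _ t ⟨a, b, c, d, e, ha, hc, he, rfl⟩ ht
    exact ⟨a, b, c + t, d, e, ha, H.σadd hc ht, he, H.n4 a b d hc he ht⟩
  · rintro _ t ⟨a, b, c, d, e, ha, hc, he, rfl⟩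
    exact ⟨a, b, c, d + t, e, ha, hc, he, H.n5 a b c d t he⟩
  · rintro _ t ⟨a, b, c, d, e, ha, hc, he, rfl⟩ ht
    exact ⟨a, b, c, d, e + t, ha, hc, H.σadd he ht, H.n6 a b c d he ht⟩

theorem nf_mem {a c e : E} (b d : E) (ha : σ a = a) (hc : σ c = c) (he : σ e = e) :
    x2 a * x3 b * x4 c * x5 d * x6 e ∈ QQ X :=
  mul_mem (mul_mem (mul_mem (mul_mem (H.m2 ha) (H.m3 b)) (H.m4 hc)) (H.m5 d)) (H.m6 he)

theorem z_mem : x4 1 ∈ QQ X := H.m4 H.σ1

theorem comm_z {g : G} (hg : g ∈ QQ X) : g * x4 1 = x4 1 * g := by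
  refine H.ind (P := fun g => g * x4 1 = x4 1 * g) ?_ ?_ ?_ ?_ ?_ ?_ hg
  · rw [one_mul, mul_one]
  · intro g a hg ha
    rw [mul_assoc, (H.c24 ha H.σ1).eq, ← mul_assoc, hg, mul_assoc]
  · intro g a hg
    rw [mul_assoc, (H.c34 (a := a) H.σ1).eq, ← mul_assoc, hg, mul_assoc]
  · intro g a hg ha
    rw [mul_assoc, (H.c4 ha H.σ1).eq, ← mul_assoc, hg, mul_assoc]
  · intro g a hg
    rw [mul_assoc, ← (H.c45 (a := a) H.σ1).eq, ← mul_assoc, hg, mul_assoc]
  · intro g a hg ha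
    rw [mul_assoc, ← (H.c46 H.σ1 ha).eq, ← mul_assoc, hg, mul_assoc]

theorem f2 (t : E) : x2 t = x2 t * x3 0 * x4 0 * x5 0 * x6 0 := by
  rw [H.x3_zero, H.x4_zero, H.x5_zero, H.x6_zero]; group
theorem f3 (t : E) : x3 t = x2 0 * x3 t * x4 0 * x5 0 * x6 0 := by
  rw [H.x2_zero, H.x4_zero, H.x5_zero, H.x6_zero]; group
theorem f5 (t : E) : x5 t = x2 0 * x3 0 * x4 0 * x5 t * x6 0 := by
  rw [H.x2_zero, H.x3_zero, H.x4_zero, H.x6_zero]; group
theorem f6 (t : E) : x6 t = x2 0 * x3 0 * x4 0 * x5 0 * x6 t := by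
  rw [H.x2_zero, H.x3_zero, H.x4_zero, H.x5_zero]; group

theorem trc0l (b : E) : SplitTwo.trc σ 0 b = 0 := by unfold SplitTwo.trc; simp
theorem trc0r (b : E) : SplitTwo.trc σ b 0 = 0 := by unfold SplitTwo.trc; simp

section Comm

variable {a c e : E} (b d : E) (ha : σ a = a) (hc : σ c = c) (he : σ e = e)

include ha hc he

theorem q2 : x2 a * x3 b * x4 c * x5 d * x6 e * x2 1 = x2 1 * (x2 a * x3 b * x4 c * x5 d * x6 e) * x4 e := by
  have h0 := H.σ0
  have h1 := H.σ1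
  rw [H.n2 b d ha hc he h1, H.f2 1, H.nmul 0 0 b d h1 h0 h0 ha hc he,
    H.n4 _ _ _ (by rw [mul_zero, H.trc0r, zero_add, zero_add, zero_add]; exact hc) (by rw [zero_add]; exact he) he]
  simp only [H.trc0r, mul_zero, zero_add, one_mul]
  rw [add_comm a 1, add_comm 1 a]

theorem q6 : x2 a * x3 b * x4 c * x5 d * x6 e * x6 1 = x6 1 * (x2 a * x3 b * x4 c * x5 d * x6 e) * x4 a := by
  have h0 := H.σ0
  have h1 := H.σ1
  rw [H.n6 a b c d he h1, H.f6 1, H.nmul 0 0 b d h0 h0 h1 ha hc he,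
    H.n4 _ _ _ (by rw [mul_one, H.trc0r, zero_add, add_zero]; exact H.σadd ha hc) (H.σadd h1 he) ha]
  simp only [H.trc0r, mul_one, zero_add, add_zero]
  have e1 : a + c + a = c := by rw [add_comm a c, add_assoc, H.add_self, add_zero]
  rw [e1, add_comm e 1]

theorem q3 (s : E) : x2 a * x3 b * x4 c * x5 d * x6 e * x3 s =
    x3 s * (x2 a * x3 b * x4 c * x5 d * x6 e) * x4 (SplitTwo.trc σ s d) := by
  have h0 := H.σ0
  rw [H.n3 a b d s hc he, H.f3 s, H.nmul s 0 b d h0 h0 h0 ha hc he,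
    H.n4 _ _ _ (by rw [mul_zero, H.trc0r, zero_add, zero_add, zero_add]; exact hc) (by rw [zero_add]; exact he)
      (H.σtrc s d)]
  simp only [H.trc0r, mul_zero, zero_add]
  rw [add_comm s b]

theorem q5 (s : E) : x2 a * x3 b * x4 c * x5 d * x6 e * x5 s =
    x5 s * (x2 a * x3 b * x4 c * x5 d * x6 e) * x4 (SplitTwo.trc σ b s) := by
  have h0 := H.σ0
  have h2 := H.σtrc b s
  rw [H.n5 a b c d s he, H.f5 s, H.nmul 0 s b d h0 h0 h0 ha hc he,
    H.n4 _ _ _ (by rw [mul_zero, zero_add, zero_add]; exact H.σadd h2 hc) (by rw [zero_add]; exact he) h2]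
  simp only [mul_zero, zero_add]
  have e1 : SplitTwo.trc σ b s + c + SplitTwo.trc σ b s = c := by
    rw [add_comm _ c, add_assoc, H.add_self, add_zero]
  rw [e1, add_comm s d]

end Comm

theorem trc_eq {b d : E} (h : ∀ s, SplitTwo.trc σ s b = SplitTwo.trc σ s d) : b = d := by
  by_contra hne
  obtain ⟨s, hs⟩ := H.trc (b - d) (sub_ne_zero.2 hne)
  have h1 : SplitTwo.trc σ s (b - d) = SplitTwo.trc σ s b - SplitTwo.trc σ s d := by
    unfold SplitTwo.trc
    simp only [mul_sub, map_sub]; ring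
  rw [h1, h s, sub_self] at hs
  exact zero_ne_one hs

theorem trc_symm (b s : E) : SplitTwo.trc σ b s = SplitTwo.trc σ s b := by
  unfold SplitTwo.trc
  rw [mul_comm b s]

/-- **Uniqueness of normal forms.** -/
theorem nf_inj {a b c d e a' b' c' d' e' : E} (ha : σ a = a) (hc : σ c = c) (he : σ e = e) (ha' : σ a' = a')
    (hc' : σ c' = c') (he' : σ e' = e')
    (h : x2 a * x3 b * x4 c * x5 d * x6 e = x2 a' * x3 b' * x4 c' * x5 d' * x6 e') :
    a = a' ∧ b = b' ∧ c = c' ∧ d = d' ∧ e = e' := by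
  have h2 := H.q2 b d ha hc he
  rw [h, H.q2 b' d' ha' hc' he'] at h2
  have e2 : e = e' := (H.par.inj4 _ _ he' he (mul_left_cancel h2)).symm
  have h6 := H.q6 b d ha hc he
  rw [h, H.q6 b' d' ha' hc' he'] at h6
  have e6 : a = a' := (H.par.inj4 _ _ ha' ha (mul_left_cancel h6)).symm
  have e3 : d = d' := H.trc_eq fun s => by
    have h3 := H.q3 b d ha hc he s
    rw [h, H.q3 b' d' ha' hc' he' s] at h3
    exact (H.par.inj4 _ _ (H.σtrc _ _) (H.σtrc _ _) (mul_left_cancel h3)).symm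
  have e5 : b = b' := H.trc_eq fun s => by
    have h5 := H.q5 b d ha hc he s
    rw [h, H.q5 b' d' ha' hc' he' s] at h5
    rw [← H.trc_symm b, ← H.trc_symm b']
    exact (H.par.inj4 _ _ (H.σtrc _ _) (H.σtrc _ _) (mul_left_cancel h5)).symm
  subst e2 e6 e3 e5
  refine ⟨rfl, rfl, ?_, rfl, rfl⟩
  have h7 := mul_left_cancel (mul_right_cancel (mul_right_cancel h))
  exact H.par.inj4 _ _ hc hc' h7

/-- commutators lie in `⟨z⟩` -/
theorem comm_cases {g g' : G} (hg : g ∈ QQ X) (hg' : g' ∈ QQ X) : g * g' = g' * g ∨ g * g' = g' * g * x4 1 := by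
  obtain ⟨a, b, c, d, e, ha, hc, he, rfl⟩ := H.nf hg
  obtain ⟨a', b', c', d', e', ha', hc', he', rfl⟩ := H.nf hg'
  have s1 : σ (a' * e) = a' * e := by rw [map_mul, ha', he]
  have s2 : σ (a * e') = a * e' := by rw [map_mul, ha, he']
  have ht : σ (a' * e + SplitTwo.trc σ b' d + (a * e' + SplitTwo.trc σ b d')) =
      a' * e + SplitTwo.trc σ b' d + (a * e' + SplitTwo.trc σ b d') :=
    H.σadd (H.σadd s1 (H.σtrc _ _)) (H.σadd s2 (H.σtrc _ _))
  have key : x2 a * x3 b * x4 c * x5 d * x6 e * (x2 a' * x3 b' * x4 c' * x5 d' * x6 e') =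
      x2 a' * x3 b' * x4 c' * x5 d' * x6 e' * (x2 a * x3 b * x4 c * x5 d * x6 e) *
        x4 (a' * e + SplitTwo.trc σ b' d + (a * e' + SplitTwo.trc σ b d')) := by
    rw [H.nmul b d b' d' ha hc he ha' hc' he', H.nmul b' d' b d ha' hc' he' ha hc he,
      H.n4 _ _ _ (H.σadd (H.σadd (H.σadd hc' s2) (H.σtrc _ _)) hc) (H.σadd he' he) ht]
    have e1 : c' + a * e' + SplitTwo.trc σ b d' + c + (a' * e + SplitTwo.trc σ b' d + (a * e' + SplitTwo.trc σ b d')) =
        c + a' * e + SplitTwo.trc σ b' d + c' := by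
      have e2 := H.add_self (a * e')
      have e3 := H.add_self (SplitTwo.trc σ b d')
      linear_combination e2 + e3
    rw [e1, add_comm a a', add_comm b b', add_comm d d', add_comm e e']
  rw [key]
  rcases H.x4_cases ht with h | h
  · left; rw [h, mul_one]
  · right; rw [h]

theorem sq_cases {g : G} (hg : g ∈ QQ X) : g * g = 1 ∨ g * g = x4 1 := by
  obtain ⟨a, b, c, d, e, ha, hc, he, rfl⟩ := H.nf hg
  have s1 : σ (a * e) = a * e := by rw [map_mul, ha, he]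
  rw [H.nmul b d b d ha hc he ha hc he, H.add_self, H.add_self, H.add_self, H.add_self, H.x2_zero, H.x3_zero,
    H.x5_zero, H.x6_zero, one_mul, one_mul, mul_one, mul_one]
  exact H.x4_cases (H.σadd (H.σadd (H.σadd hc s1) (H.σtrc _ _)) hc)

theorem cent_cases {g : G} (hg : g ∈ QQ X) (h : ∀ y ∈ QQ X, g * y = y * g) : g = 1 ∨ g = x4 1 := by
  obtain ⟨a, b, c, d, e, ha, hc, he, rfl⟩ := H.nf hg
  have key : ∀ {u v w : G}, u * v = v * u * w → u * v = v * u → w = 1 := fun h1 h2 => by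
    rw [h2] at h1
    exact (left_eq_mul.1 h1)
  have e2 : e = 0 := H.par.inj4 _ _ he H.σ0 (by rw [H.x4_zero]; exact key (H.q2 b d ha hc he) (h _ (H.m2 H.σ1)))
  have e6 : a = 0 := H.par.inj4 _ _ ha H.σ0 (by rw [H.x4_zero]; exact key (H.q6 b d ha hc he) (h _ (H.m6 H.σ1)))
  have e3 : d = 0 := H.trc_eq fun s => by
    rw [H.trc0r]
    exact H.par.inj4 _ _ (H.σtrc _ _) H.σ0 (by rw [H.x4_zero]; exact key (H.q3 b d ha hc he s) (h _ (H.m3 s)))
  have e5 : b = 0 := H.trc_eq fun s => by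
    rw [H.trc0r, ← H.trc_symm b]
    exact H.par.inj4 _ _ (H.σtrc _ _) H.σ0 (by rw [H.x4_zero]; exact key (H.q5 b d ha hc he s) (h _ (H.m5 s)))
  rw [e2, e6, e3, e5, H.x2_zero, H.x3_zero, H.x5_zero, H.x6_zero, one_mul, one_mul, mul_one, mul_one]
  exact H.x4_cases hc

/-- **`Q` is extraspecial.** -/
theorem large : Large (⊤ : Subgroup ↥(QQ X)) (⟨x4 1, H.z_mem⟩ : ↥(QQ X)) where
  z_mem := Subgroup.mem_top _
  z_ne h := H.z_ne (congrArg Subtype.val h)
  z_sq := Subtype.ext H.zz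
  comm_z x _ := Subtype.ext (H.comm_z x.2)
  conj_mem _ _ _ _ := Subgroup.mem_top _
  sq x _ := by
    rcases H.sq_cases x.2 with h | h
    · exact Or.inl (Subtype.ext h)
    · exact Or.inr (Subtype.ext h)
  comm x _ y _ := by
    rcases H.comm_cases x.2 y.2 with h | h
    · exact Or.inl (Subtype.ext h)
    · exact Or.inr (Subtype.ext h)
  cent x _ h := by
    rcases H.cent_cases x.2 fun y hy => congrArg Subtype.val (h ⟨y, hy⟩ (Subgroup.mem_top _)) with h | h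
    · exact Or.inl (Subtype.ext h)
    · exact Or.inr (Subtype.ext h)
  self _ _ _ := Subgroup.mem_top _

theorem card_le [Finite G] [Finite E] : 8 * Nat.card E ^ 2 ≤ Nat.card ↥(QQ X) := by
  let β : Bool → E := fun i => if i then 1 else 0
  have hβ : ∀ i, σ (β i) = β i := by
    intro i
    cases i
    · exact H.σ0
    · exact H.σ1
  have hβi : Function.Injective β := by
    intro i j h
    cases i <;> cases j
    · rfl
    · exact absurd h zero_ne_one
    · exact absurd h one_ne_zero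
    · rfl
  let f : (Bool × Bool × Bool) × (E × E) → ↥(QQ X) := fun p =>
    ⟨x2 (β p.1.1) * x3 p.2.1 * x4 (β p.1.2.1) * x5 p.2.2 * x6 (β p.1.2.2), H.nf_mem _ _ (hβ _) (hβ _) (hβ _)⟩
  have hf : Function.Injective f := by
    rintro ⟨⟨i, j, k⟩, b, d⟩ ⟨⟨i', j', k'⟩, b', d'⟩ h
    obtain ⟨h1, h2, h3, h4, h5⟩ := H.nf_inj (hβ _) (hβ _) (hβ _) (hβ _) (hβ _) (hβ _) (congrArg Subtype.val h)
    have e1 := hβi h1
    have e3 := hβi h3
    have e5 := hβi h5
    simp only at e1 e3 e5 h2 h4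
    rw [e1, e3, e5, h2, h4]
  have h1 := Nat.card_le_card_of_injective f hf
  rw [Nat.card_prod, Nat.card_prod, Nat.card_prod, Nat.card_prod, Nat.card_eq_fintype_card (α := Bool),
    Fintype.card_bool] at h1
  calc 8 * Nat.card E ^ 2 = 2 * (2 * 2) * (Nat.card E * Nat.card E) := by ring
    _ ≤ _ := h1

/-- **Subgroups of `Q` not containing the central involution.** -/
theorem index_sq [Finite G] {A : Subgroup G} (hz : x4 1 ∉ A) :
    2 * Nat.card ↥(QQ X) ≤ A.relIndex (QQ X) ^ 2 := by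
  have h1 := H384.LargeIdx.card_sq_le H.large (A := A.subgroupOf (QQ X)) le_top
    (fun h => hz (Subgroup.mem_subgroupOf.1 h))
  have h2 := H.large.card_eq
  have h3 : Nat.card (A.subgroupOf (QQ X)) * A.relIndex (QQ X) = Nat.card ↥(QQ X) :=
    Subgroup.card_mul_index _
  rw [Subgroup.card_top] at h2
  have h4 : 0 < Nat.card (A.subgroupOf (QQ X)) := Nat.card_pos
  generalize Nat.card (A.subgroupOf (QQ X)) = m at h1 h3 h4
  generalize Nat.card ↥(QQ X) = n at h2 h3 ⊢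
  generalize A.relIndex (QQ X) = i at h3 ⊢
  generalize Nat.card H.large.V = v at h1 h2
  have h5 : m ^ 2 * (2 * n) ≤ m ^ 2 * i ^ 2 := by
    calc m ^ 2 * (2 * n) = 2 * (m * m) * n := by ring
      _ ≤ 2 * v * n := Nat.mul_le_mul_right _ (Nat.mul_le_mul_left _ h1)
      _ = n * n := by rw [h2]
      _ = m ^ 2 * i ^ 2 := by rw [← h3]; ring
  exact Nat.le_of_mul_le_mul_left h5 (pow_pos h4 2)

end HD

end Cfsg.Agent.H872.TD4.Hex
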