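import Cfsg.Agent.H872.TD4.Aut
import Cfsg.Agent.H872.TD4.Arith
import Cfsg.Agent.S2342

/-!
# TEAM TWOCYC (S3507), row `³D₄(q)`: orders of automorphisms (helper872)

* `smC_gen` : `SmC ³D₄(q)`, `q ≠ 2, 4`;
* `smC_four` : `SmC ³D₄(4)`;
* `mo_two` : `Mo ³D₄(2) 84`.
-/

set_option autoImplicit false
set_option linter.unusedSectionVars false

namespace Cfsg.Agent.H872.TD4

open Cfsg Cfsg.Lie Cfsg.Lie.ChevalleyDatum
open Cfsg.Agent.ChevalleyStructure
open Cfsg.Agent.H967.CopMat Cfsg.Agent.H967.CopTw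
open Cfsg.Agent.H384.Cyc

universe u

variable {K : Type u} [Field K] [Fintype K]

theorem md {q : ℕ} (hq : IsPrimePow q) (hK : Fintype.card K = q ^ 3) :
    H954.OutDeg.MD ↥(twistedD4 K q) (q * (q ^ 4 - q ^ 2 + 1)) :=
  md_of_rep (MonoidHom.id _) Function.surjective_id fun k ρ hρ hk => S2342.result q hq hK k ρ hρ hk

theorem ob_pf {p f : ℕ} (hp : p.Prime) (hf : 0 < f) (hK : Fintype.card K = (p ^ f) ^ 3)
    (g : ↥(twistedD4 K (p ^ f))) : OB p (p ^ f) (orderOf g) := by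
  obtain ⟨p', f', hp', hf', hqe, h⟩ := ob_tw (hp.isPrimePow.pow hf.ne') hK g
  have h1 : p = p' := by
    have h2 : p ∣ p' ^ f' := by rw [← hqe]; exact dvd_pow_self p hf.ne'
    exact (Nat.prime_dvd_prime_iff_eq hp hp').1 (hp.dvd_of_dvd_pow h2)
  subst h1
  exact h

theorem orderOf_conj_le {G : Type*} [Group G] [Finite G] (t : G) :
    orderOf (MulAut.conj t) ≤ orderOf t :=
  Nat.le_of_dvd (orderOf_pos t) (orderOf_map_dvd (MulAut.conj : G →* MulAut G) t)

theorem mo_gen {p f m : ℕ} (hp : p.Prime) (hf : 0 < f) (hK : Fintype.card K = (p ^ f) ^ 3)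
    (h : ∀ n, OB p (p ^ f) n → n ≤ m) : Mo ↥(twistedD4 K (p ^ f)) (3 * f * m) := by
  refine mo_of_index (MulAut.conj : ↥(twistedD4 K (p ^ f)) →* MulAut ↥(twistedD4 K (p ^ f))).range
    (index_inn hp hf hK).le ?_
  rintro _ ⟨t, rfl⟩
  exact (orderOf_conj_le t).trans (h _ (ob_pf hp hf hK t))

theorem smC_gen {p f : ℕ} (hp : p.Prime) (hf : 0 < f) (hK : Fintype.card K = (p ^ f) ^ 3) (h2 : p ^ f ≠ 2)
    (h4 : p ^ f ≠ 4) : SmC ↥(twistedD4 K (p ^ f)) := by
  obtain ⟨δ, hδ⟩ : ∃ δ, δ = p ^ f * ((p ^ f) ^ 4 - (p ^ f) ^ 2 + 1) := ⟨_, rfl⟩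
  refine ⟨3 * f * (δ / (2 * f)), δ, mo_gen hp hf hK fun n hn => ?_, hδ ▸ md (hp.isPrimePow.pow hf.ne') hK, ?_⟩
  · rw [Nat.le_div_iff_mul_le (by omega), mul_comm, hδ]
    exact ob_le hp hf h2 h4 hn
  · have h5 : 2 * f * (δ / (2 * f)) ≤ δ := Nat.mul_div_le δ (2 * f)
    calc 2 * (3 * f * (δ / (2 * f))) = 3 * (2 * f * (δ / (2 * f))) := by ring
      _ ≤ 3 * δ := Nat.mul_le_mul_left _ h5

theorem mo_two (hK : Fintype.card K = 2 ^ 3) : Mo ↥(twistedD4 K 2) 84 := by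
  have h := mo_gen (K := K) (p := 2) (f := 1) (m := 28) Nat.prime_two one_pos (by rw [pow_one]; exact hK)
    (fun n hn => ob_two (by rwa [pow_one] at hn))
  rw [pow_one] at h
  exact h

/-! ### `q = 4` -/

section Four

theorem exists_frob_six (hK : Fintype.card K = 4 ^ 3) :
    ∃ F : K ≃+* K, (∀ a, F a = a ^ 2) ∧
    ∀ σ : K ≃+* K, ∃ n < 6, σ = F ^ n := by
  classical
  have : Fact (Nat.Prime 2) := ⟨Nat.prime_two⟩
  have hK' : Fintype.card K = 2 ^ 6 := by rw [hK]; norm_num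
  have hc : CharP K 2 := H967.CopSz.charP_of_card Nat.prime_two hK'
  obtain ⟨F, hF⟩ : ∃ F : K ≃+* K, ∀ a, F a = a ^ 2 :=
    ⟨RingEquiv.ofBijective (frobenius K 2) (Finite.injective_iff_bijective.1 (frobenius K 2).injective),
      fun a => rfl⟩
  have hcard : Nat.card (K ≃+* K) = 6 := H166.FieldAut.card_ringAut 2 6 hK'
  have hfin : Finite (K ≃+* K) := Nat.finite_of_card_ne_zero (by rw [hcard]; norm_num)
  have hpow : ∀ n : ℕ, ∀ a, (F ^ n) a = a ^ 2 ^ n := by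
    intro n
    induction n with
    | zero => intro a; rw [pow_zero, pow_zero, pow_one]; rfl
    | succ n ih =>
      intro a
      rw [pow_succ, RingAut.mul_apply, ih, hF, ← pow_mul, pow_succ, mul_comm]
  obtain ⟨x, hx⟩ := IsCyclic.exists_generator (α := Kˣ)
  have hox : orderOf x = 63 := by
    rw [orderOf_eq_card_of_forall_mem_zpowers hx, Nat.card_units, Nat.card_eq_fintype_card, hK]
    norm_num
  have hno : ∀ n, 0 < n → n < 6 → F ^ n ≠ 1 := by
    intro n hn hn6 h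
    have h1 := hpow n (x : K)
    rw [h] at h1
    have h2 : x ^ 2 ^ n = x := Units.ext (by rw [Units.val_pow_eq_pow_val]; exact h1.symm)
    have h3 : x ^ (2 ^ n - 1) = 1 := by
      have h4 : 2 ^ n = 2 ^ n - 1 + 1 := by have := Nat.one_le_two_pow (n := n); omega
      rw [h4, pow_succ] at h2
      exact mul_eq_right.1 h2
    have h4 := orderOf_dvd_of_pow_eq_one h3
    rw [hox] at h4
    have h5 := Nat.le_of_dvd (by have := Nat.one_lt_two_pow hn.ne'; omega) h4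
    have h6 : 2 ^ n ≤ 2 ^ 5 := Nat.pow_le_pow_right (by norm_num) (by omega)
    omega
  have hord : orderOf F = 6 := by
    have h1 : orderOf F ∣ 6 := hcard ▸ orderOf_dvd_natCard F
    have h2 : 0 < orderOf F := orderOf_pos F
    have h3 := Nat.le_of_dvd (by norm_num) h1
    by_contra h4
    exact hno (orderOf F) h2 (by omega) (pow_orderOf_eq_one F)
  refine ⟨F, hF, fun σ => ?_⟩
  have htop : Subgroup.zpowers F = ⊤ := by
    apply Subgroup.eq_top_of_card_eq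
    rw [Nat.card_zpowers, hord, hcard]
  have hσ : σ ∈ Subgroup.zpowers F := by rw [htop]; exact Subgroup.mem_top σ
  rw [← mem_powers_iff_mem_zpowers, mem_powers_iff_mem_range_orderOf] at hσ
  obtain ⟨n, hn, e⟩ := Finset.mem_image.1 hσ
  rw [Finset.mem_range, hord] at hn
  exact ⟨n, hn, e.symm⟩

theorem conj_injective {q : ℕ} (hq : IsPrimePow q) (hK : Fintype.card K = q ^ 3) :
    Function.Injective (MulAut.conj : ↥(twistedD4 K q) →* MulAut ↥(twistedD4 K q)) := by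
  rw [injective_iff_map_eq_one]
  intro t ht
  have h1 : t ∈ Subgroup.center ↥(twistedD4 K q) := by
    rw [Subgroup.mem_center_iff]
    intro g
    have h2 := congrArg (fun α : MulAut ↥(twistedD4 K q) => α g) ht
    have h3 : t * g * t⁻¹ = g := by simpa using h2
    rw [mul_inv_eq_iff_eq_mul] at h3
    exact h3.symm
  rw [H69.OutTwD4.center_eq_bot hq hK] at h1
  exact Subgroup.mem_bot.1 h1

/-- powers modulo the inner automorphisms -/
theorem pow_mem_inn {q : ℕ} {g : ↥(twistedD4 K q)} {σ : K ≃+* K} {n : ℕ} (h : σ ^ n = 1) :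
    (MulAut.conj g * fieldAut (stab_d4 q) σ) ^ n ∈
      (MulAut.conj : ↥(twistedD4 K q) →* MulAut ↥(twistedD4 K q)).range := by
  have hn : ((MulAut.conj : ↥(twistedD4 K q) →* MulAut ↥(twistedD4 K q)).range).Normal :=
    inferInstanceAs (Cfsg.Inn ↥(twistedD4 K q)).Normal
  rw [← QuotientGroup.eq_one_iff, QuotientGroup.mk_pow, QuotientGroup.mk_mul]
  have h1 : (QuotientGroup.mk (MulAut.conj g) : MulAut ↥(twistedD4 K q) ⧸
      (MulAut.conj : ↥(twistedD4 K q) →* MulAut ↥(twistedD4 K q)).range) = 1 :=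
    (QuotientGroup.eq_one_iff _).2 ⟨g, rfl⟩
  rw [h1, one_mul, ← QuotientGroup.mk_pow, ← map_pow, h, map_one, QuotientGroup.mk_one]

/-- the fixed inner part -/
theorem fix_of_pow {q : ℕ} (hq : IsPrimePow q) (hK : Fintype.card K = q ^ 3) {α : MulAut ↥(twistedD4 K q)} {n : ℕ}
    {x : ↥(twistedD4 K q)} (h : MulAut.conj x = α ^ n) : α x = x := by
  apply conj_injective hq hK
  have h1 : MulAut.conj (α x) = α * MulAut.conj x * α⁻¹ := by
    ext1 y
    show α x * y * (α x)⁻¹ = α (x * α⁻¹ y * x⁻¹)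
    rw [map_mul, map_mul, map_inv, MulAut.apply_inv_self]
  rw [h1, h]
  group

theorem four_inv (hK : Fintype.card K = 4 ^ 3) {F : K ≃+* K} (hF : ∀ a, F a = a ^ 2) (h6 : F ^ 6 = 1)
    (g : ↥(twistedD4 K 4)) : orderOf (MulAut.conj g * fieldAut (stab_d4 4) F⁻¹) ≤ 945 := by
  have hq : IsPrimePow 4 := ⟨2, 2, Nat.prime_two.prime, by norm_num, by norm_num⟩
  obtain ⟨α, hα⟩ : ∃ α, α = MulAut.conj g * fieldAut (stab_d4 4) F⁻¹ := ⟨_, rfl⟩
  obtain ⟨x, hx⟩ := pow_mem_inn (g := g) (σ := F⁻¹) (n := 6) (by rw [inv_pow, h6, inv_one])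
  rw [← hα] at hx ⊢
  have h1 := fix_of_pow hq hK hx
  have h2 : g * fieldAut (stab_d4 4) F⁻¹ x * g⁻¹ = x := by
    rw [hα] at h1
    exact h1
  have h3 := ob_descend Nat.prime_two (q := 4) (by norm_num) hq hK (τ := F⁻¹) (fun a => by
    rw [← hF]; exact F.apply_symm_apply a) h2
  have h4 := ob_two h3
  have h5 : α ^ (6 * orderOf x) = 1 := by
    rw [pow_mul, ← hx, ← map_pow, pow_orderOf_eq_one, map_one]
  have h7 := Nat.le_of_dvd (Nat.mul_pos (by norm_num) (orderOf_pos x)) (orderOf_dvd_of_pow_eq_one h5)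
  omega

theorem mo_four (hK : Fintype.card K = 4 ^ 3) : Mo ↥(twistedD4 K 4) 945 := by
  have hq : IsPrimePow 4 := ⟨2, 2, Nat.prime_two.prime, by norm_num, by norm_num⟩
  obtain ⟨F, hF, hgen⟩ := exists_frob_six hK
  have hK' : Fintype.card K = 2 ^ 6 := by rw [hK]; norm_num
  have h6 : F ^ 6 = 1 := by
    have : Fact (Nat.Prime 2) := ⟨Nat.prime_two⟩
    have hc : CharP K 2 := H967.CopSz.charP_of_card Nat.prime_two hK'
    have hcard : Nat.card (K ≃+* K) = 6 := H166.FieldAut.card_ringAut 2 6 hK'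
    rw [← hcard]
    exact pow_card_eq_one'
  have hord : ∀ t : ↥(twistedD4 K 4), orderOf t ≤ 315 := fun t => by
    have h1 := ob_pf (K := K) (p := 2) (f := 2) Nat.prime_two (by norm_num) (by rw [hK]; norm_num) t
    exact ob_four h1
  have key : ∀ (g : ↥(twistedD4 K 4)) (σ : K ≃+* K) (n : ℕ), 0 < n → n ≤ 3 → σ ^ n = 1 →
      orderOf (MulAut.conj g * fieldAut (stab_d4 4) σ) ≤ 945 := by
    intro g σ n hn hn3 h
    obtain ⟨x, hx⟩ := pow_mem_inn (g := g) (σ := σ) (n := n) h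
    have h5 : (MulAut.conj g * fieldAut (stab_d4 4) σ) ^ (n * orderOf x) = 1 := by
      rw [pow_mul, ← hx, ← map_pow, pow_orderOf_eq_one, map_one]
    have h7 := Nat.le_of_dvd (Nat.mul_pos hn (orderOf_pos x)) (orderOf_dvd_of_pow_eq_one h5)
    have h8 := Nat.mul_le_mul hn3 (hord x)
    omega
  intro α
  obtain ⟨g, σ, rfl⟩ := exists_conj_field hq hK α
  obtain ⟨n, hn, rfl⟩ := hgen σ
  have h12 : F ^ 12 = 1 := by rw [show 12 = 6 * 2 by norm_num, pow_mul, h6, one_pow]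
  interval_cases n
  · exact key g _ 1 (by norm_num) (by norm_num) (by rw [pow_one, pow_zero])
  · have e : (MulAut.conj g * fieldAut (stab_d4 4) (F ^ 1))⁻¹ =
        MulAut.conj (fieldAut (stab_d4 4) F⁻¹ g⁻¹) * fieldAut (stab_d4 4) F⁻¹ := by
      rw [pow_one, mul_inv_rev, ← map_inv, ← map_inv]
      ext1 y
      show fieldAut (stab_d4 4) F⁻¹ (g⁻¹ * y * g⁻¹⁻¹) = fieldAut (stab_d4 4) F⁻¹ g⁻¹ * fieldAut (stab_d4 4) F⁻¹ y *
        (fieldAut (stab_d4 4) F⁻¹ g⁻¹)⁻¹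
      rw [map_mul, map_mul, ← map_inv]
    rw [← orderOf_inv, e]
    exact four_inv hK hF h6 _
  · exact key g _ 3 (by norm_num) (by norm_num) (by rw [← pow_mul]; exact h6)
  · exact key g _ 2 (by norm_num) (by norm_num) (by rw [← pow_mul]; exact h6)
  · exact key g _ 3 (by norm_num) (by norm_num) (by rw [← pow_mul]; exact h12)
  · have e : F ^ 5 = F⁻¹ := by
      rw [eq_inv_iff_mul_eq_one, ← pow_succ]
      exact h6
    rw [e]
    exact four_inv hK hF h6 g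

theorem smC_four (hK : Fintype.card K = 4 ^ 3) : SmC ↥(twistedD4 K 4) :=
  ⟨945, 4 * (4 ^ 4 - 4 ^ 2 + 1), mo_four hK, md ⟨2, 2, Nat.prime_two.prime, by norm_num, by norm_num⟩ hK, by norm_num⟩

end Four

end Cfsg.Agent.H872.TD4
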