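import Cfsg.Agent.H872.TD4.Act
import Cfsg.Agent.H872.TD4.Mo
import Cfsg.Agent.Hexagon.TwD4Par
import Cfsg.Agent.Schreier.ThreeD4
import Cfsg.Agent.S1071

/-!
# TEAM TWOCYC (S3507), row `³D₄(2)`: the index of proper subgroups (helper872)

* `index_ge` : proper subgroups of `³D₄(2)` have index at least `224`;
* `sm_two` : `Sm ³D₄(2)`.
-/

set_option autoImplicit false
set_option linter.unusedSectionVars false

namespace Cfsg.Agent.H872.TD4.Inst

open Cfsg Cfsg.Lie Cfsg.Lie.ChevalleyDatum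
open Cfsg.Agent.ChevalleyStructure
open Cfsg.Agent.ChevalleyStructure.D4Fixed (fix mem_fix)
open Cfsg.Agent.ChevalleyStructure.TwistedU
open Cfsg.Agent.ChevalleyStructure.D4Twisted
open Cfsg.Agent.ChevalleyStructure.D4U
open Cfsg.Agent.Hexagon.TwD4RGD Cfsg.Agent.Hexagon.TwD4Rel Cfsg.Agent.Hexagon.TwD4Par
open Cfsg.Agent.SplitTwo
open Cfsg.Agent.TitsThree.RankTwoZ
open Cfsg.Agent.H384.Cyc

universe u

section Field

variable {K : Type u} [Field K] [Fintype K]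

theorem exists_data (hK : Fintype.card K = 2 ^ 3) : ∃ (φ : K →+* K) (σ : K ≃+* K),
    (∀ x, φ x = x ^ 2) ∧ (∀ x, σ x = φ x) ∧ (∀ a, σ (σ (σ a)) = a) ∧ ∃ c : K, c ≠ 0 ∧ c ≠ 1 := by
  obtain ⟨φ, hφ⟩ := D4Fixed.exists_frob (q := 2) Nat.prime_two.isPrimePow hK
  refine ⟨φ, RingEquiv.ofBijective φ (Finite.injective_iff_bijective.1 φ.injective), hφ, fun x => rfl, ?_, ?_⟩
  · intro a
    show φ (φ (φ a)) = a
    rw [hφ, hφ, hφ, ← pow_mul, ← pow_mul]
    have h := FiniteField.pow_card a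
    rw [hK] at h
    exact h
  · classical
    by_contra h
    push Not at h
    have h1 : (Finset.univ : Finset K) ⊆ {0, 1} := by
      intro x _
      by_cases h0 : x = 0
      · simp [h0]
      · simp [h x h0]
    have h2 := Finset.card_le_card h1
    rw [Finset.card_univ, hK] at h2
    have h3 : ({0, 1} : Finset K).card ≤ 2 := Finset.card_le_two
    omega

theorem two_eq (hK : Fintype.card K = 2 ^ 3) : (1 : K) + 1 = 0 := by
  have : Fact (Nat.Prime 2) := ⟨Nat.prime_two⟩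
  have hc : CharP K 2 := H967.CopSz.charP_of_card Nat.prime_two hK
  exact CharTwo.add_self_eq_zero 1

end Field

section

variable {K : Type u} [Field K] [Fintype K] {φ : K →+* K} {σ : K ≃+* K}

theorem hd (hK : Fintype.card K = 2 ^ 3) (hφ : ∀ x, φ x = x ^ 2) (hσ : ∀ x, σ x = φ x)
    (h3 : ∀ a, σ (σ (σ a)) = a) {c : K} (hc0 : c ≠ 0) (hc1 : c ≠ 1) :
    Hex.HD σ (X K 2) (ev (X1 σ)) (ev X2) (ev (X3 σ)) (ev X4) (ev (X5 σ)) (ev X6) where
  par := hexPar hφ (D4Fixed.twisted_le_fix hK hφ) hσ h3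
  fix a h := by
    rw [hσ, hφ] at h
    have h1 : a * (a - 1) = 0 := by linear_combination h
    rcases mul_eq_zero.1 h1 with h2 | h2
    · exact Or.inl h2
    · exact Or.inr (sub_eq_zero.1 h2)
  trc b hb := by
    refine ⟨b⁻¹, ?_⟩
    unfold SplitTwo.trc
    rw [inv_mul_cancel₀ hb, map_one, map_one, two_eq hK, zero_add]
  crs b hb := by
    have h2 := two_eq hK
    refine ⟨c * b, ?_⟩
    have e : SplitTwo.crs σ (c * b) b = c ^ 2 * b ^ 6 * (1 + c) ^ 2 := by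
      unfold SplitTwo.crs
      simp only [hσ, hφ]
      linear_combination (- c ^ 3 * b ^ 6) * h2
    rw [e]
    have h4 : 1 + c ≠ 0 := by
      intro h5
      apply hc1
      linear_combination h5 - h2
    exact mul_ne_zero (mul_ne_zero (pow_ne_zero _ hc0) (pow_ne_zero _ hb)) (pow_ne_zero _ h4)

theorem exists_torus (hK : Fintype.card K = 2 ^ 3) (hφ : ∀ x, φ x = x ^ 2) (hσ : ∀ x, σ x = φ x)
    {c : K} (hc0 : c ≠ 0) (hc1 : c ≠ 1) : ∃ h : ↥(twistedD4 K 2), h ^ 7 = 1 ∧ (∀ k x, x ∈ X K 2 k → h * x * h⁻¹ ∈ X K 2 k) ∧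
      ∀ a, ∃ b, (ev (X1 σ) a : ↥(twistedD4 K 2)) = h * ev (X1 σ) b * h⁻¹ * (ev (X1 σ) b)⁻¹ := by
  have hle := D4Fixed.twisted_le_fix hK hφ
  have hd := hb_mem_diagonal (φ := φ) hc0
  refine ⟨⟨hb φ c, hb_mem hφ c⟩, ?_, ?_, ?_⟩
  · apply Subtype.ext
    have h1 := Schreier.ThreeD4.pow_card_sub_one hd
    rw [Nat.card_eq_fintype_card, hK] at h1
    exact h1
  · intro k x hx
    rw [mem_X] at hx ⊢
    exact H_RS hd (L_lt k) hx
  · obtain ⟨d, hd2⟩ := Schreier.ThreeD4.H_conj_b hd (hle (hb_mem hφ c)) (fun t => hle (X_mem_tw hφ t))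
    have hdc : d = c ^ 2 := by
      have h1 := hd2 1
      rw [Schreier.ThreeD4.sq_b hc0, mul_one] at h1
      exact (Schreier.ThreeD4.X_inj h1).symm
    have h2 := two_eq hK
    have h4 : c ^ 2 - 1 ≠ 0 := by
      intro h5
      have h6 : (c - 1) * (c - 1) = 0 := by linear_combination h5 + (1 - c) * h2
      rcases mul_eq_zero.1 h6 with h7 | h7 <;> exact hc1 (sub_eq_zero.1 h7)
    intro a
    refine ⟨a / (c ^ 2 - 1), ?_⟩
    apply Subtype.ext
    rw [Subgroup.coe_mul, Subgroup.coe_mul, Subgroup.coe_mul, Subgroup.coe_inv, Subgroup.coe_inv, c1 hφ hσ, c1 hφ hσ,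
      X1_eq σ φ hσ, X1_eq σ φ hσ, hd2, hdc, eq_mul_inv_iff_mul_eq, ← Schreier.ThreeD4.X_add]
    congr 1
    field_simp
    ring

theorem index_ge (hK : Fintype.card K = 2 ^ 3) (M : Subgroup ↥(twistedD4 K 2)) (hM : M ≠ ⊤) : 224 ≤ M.index := by
  obtain ⟨φ, σ, hφ, hσ, h3, c, hc0, hc1⟩ := exists_data hK
  have H := hd hK hφ hσ h3 hc0 hc1
  obtain ⟨h, h7, hh, hx⟩ := exists_torus hK hφ hσ hc0 hc1
  have hn := maps_nb (K := K) hφ
  have hS := (S1071.result (K := K) (q := 2) Nat.prime_two.isPrimePow hK).1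
  obtain ⟨ω, hω⟩ : ∃ ω : ↥(twistedD4 K 2) ⧸ M, (ev X4 (1 : K) : ↥(twistedD4 K 2)) • ω ≠ ω := by
    by_contra hcon
    push Not at hcon
    have h1 : (ev X4 (1 : K) : ↥(twistedD4 K 2)) ∈ M.normalCore := by
      rw [M.normalCore_eq_ker, MonoidHom.mem_ker]
      ext x
      exact hcon x
    rcases Subgroup.Normal.eq_bot_or_eq_top (H := M.normalCore) inferInstance with h2 | h2
    · rw [h2, Subgroup.mem_bot] at h1
      exact H.z_ne h1
    · exact hM (eq_top_iff.2 (h2 ▸ M.normalCore_le))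
  have h8 : (8 : ZMod (2 * 6)) = ((6 : ℕ) : ZMod (2 * 6)) + 2 := by decide +kernel
  have := Act.card_ge H (by rw [Nat.card_eq_fintype_card, hK]; norm_num) (n := ⟨nb K, nb_mem hφ⟩)
    (fun k x => by rw [h8]; exact hn k x) h7 hh hx hω
  rwa [← Subgroup.index_eq_card] at this

theorem sm_two (hK : Fintype.card K = 2 ^ 3) : Sm ↥(twistedD4 K 2) :=
  ⟨84, mo_two hK, fun M hM => lt_of_lt_of_le (by norm_num) (index_ge hK M hM)⟩

end

end Cfsg.Agent.H872.TD4.Inst
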