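import Cfsg.Agent.H378.OmD4Tor

/-!
# TEAM TWOCYC (S3507), row `³D₄(q)`: pairs of commuting elements, any characteristic (helper872)

The proof of `H378.OmD4.main` (helper378), with a bound for the exponent of the unipotent element in any characteristic.
-/

set_option autoImplicit false
set_option linter.unusedSectionVars false

namespace Cfsg.Agent.H872.TD4

open CoxeterSystem Cfsg Cfsg.Lie Cfsg.Lie.ChevalleyDatum
open Cfsg.Agent.ChevalleyStructure Cfsg.Agent.ChevalleyStructure.Elts Cfsg.Agent.ChevalleyStructure.CoxeterGeom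
  Cfsg.Agent.ChevalleyStructure.CoxeterGeomTypes Cfsg.Agent.ChevalleyStructure.NPerm
open Cfsg.Agent.Tits.Roots Cfsg.Agent.Tits.Core Cfsg.Agent.Nodes Cfsg.Agent.Nodes.Reps Cfsg.Agent.Nodes.BNOf
  Cfsg.Agent.Nodes.RGDChev Cfsg.Agent.Nodes.Bruhat
open Cfsg.Agent.KFacts.RgdField Cfsg.Agent.KFacts.RgdChevCoord
open Cfsg.Agent.BpExc Cfsg.Agent.BpExc.TorCent Cfsg.Agent.BpExc.TorChev Cfsg.Agent.BpExc.Tow
  Cfsg.Agent.BpExc.TowChev Cfsg.Agent.BpExc.Fr Cfsg.Agent.BpExc.NInst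
open Cfsg.Agent.H129.TorusChar Cfsg.Agent.H129.TriD4
open Cfsg.Agent.H378 Cfsg.Agent.H378.OmD4
open scoped commutatorElement

universe u v

section Unip

variable {W : Type v} [Group W] (cs : CoxeterSystem coxeterD4 W)
variable {k : Type u} [Field k] (hk : LocFin k) (p : ℕ) [Fact p.Prime] [CharP k p] {x : ↥(chevD4.group k)}

include hk p

/-- `p`-th powers -/
theorem pow_Hn [Finite W] {n : ℤ} (hn : 0 ≤ n) (hx : x ∈ RGD.Sup (XX chevD4 4 k) (Hn cs n)) :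
    x ^ p ∈ RGD.Sup (XX chevD4 4 k) (Hn cs (2 * n)) := by
  refine NilExp.pow_mem (S := Hn cs n) (S' := Hn cs (2 * n)) ?_ ?_ ?_ hx
  · rintro a ⟨h1, h2, h3⟩
    exact ⟨h1, h2, by omega⟩
  · intro a ha b hb y hy z hz
    exact comm_Hn cs hk p ha hb hy hz (by omega)
  · intro a ha y hy
    exact NilExp.pow_root RGDTwD4.hp cs hk p ha.1 hy

/-- the elements of `U` -/
theorem U_exp' [Finite W] (hx : x ∈ RGD.Sup (XX chevD4 4 k) (Hn cs 1)) : x ^ p ^ 3 = 1 := by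
  have h3 := pow_Hn cs hk p (by norm_num) (pow_Hn cs hk p (by norm_num) (pow_Hn cs hk p (by norm_num) hx))
  rw [Hn_empty cs (by norm_num), Sup_empty, Subgroup.mem_bot, ← pow_mul, ← pow_mul] at h3
  rw [show p ^ 3 = p * (p * p) by ring]
  exact h3

/-- no sums of three roots -/
theorem exp_two' [Finite W] {S : Set (Fin 4 → ℤ)} (hS : ∀ a ∈ S, IsRoot cs RGDTwD4.hp.isCartan a ∧ 0 ≤ a)
    (hcl : ∀ a ∈ S, ∀ b ∈ S, IsRoot cs RGDTwD4.hp.isCartan (a + b) → a + b ∈ S)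
    (hsum : ∀ a ∈ S, ∀ b ∈ S, ∀ c ∈ S, IsRoot cs RGDTwD4.hp.isCartan (a + b) →
      ¬ IsRoot cs RGDTwD4.hp.isCartan (a + b + c)) (hx : x ∈ RGD.Sup (XX chevD4 4 k) S) :
    x ^ (p * p) = 1 := by
  set S₁ : Set (Fin 4 → ℤ) := {z | z ∈ S ∧ ∃ a ∈ S, ∃ b ∈ S, z = a + b} with hS₁
  have hle : S₁ ⊆ S := fun z hz => hz.1
  have hc : ∀ a ∈ S, ∀ b ∈ S, ∀ y ∈ XX chevD4 4 k a, ∀ z ∈ XX chevD4 4 k b,
      ⁅y, z⁆ ∈ RGD.Sup (XX chevD4 4 k) S₁ := fun a ha b hb y hy z hz =>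
    NilExp.comm_pos RGDTwD4.hp cs (sl_D4 cs) hk p (S := S₁) (hS a ha).1 (hS a ha).2 (hS b hb).1 (hS b hb).2
      (fun h => ⟨hcl a ha b hb h, a, ha, b, hb, rfl⟩) hy hz
  have hc' : ∀ a ∈ S₁, ∀ b ∈ S, ∀ y ∈ XX chevD4 4 k a, ∀ z ∈ XX chevD4 4 k b,
      ⁅y, z⁆ ∈ RGD.Sup (XX chevD4 4 k) (∅ : Set (Fin 4 → ℤ)) := fun a ha b hb y hy z hz =>
    NilExp.comm_pos RGDTwD4.hp cs (sl_D4 cs) hk p (hS a ha.1).1 (hS a ha.1).2 (hS b hb).1 (hS b hb).2
      (fun h => by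
        obtain ⟨haS, c, hc, d, hd, rfl⟩ := ha
        exact absurd h (hsum c hc d hd b hb (hS _ haS).1)) hy hz
  have h1 := NilExp.pow_mem hle hc (p := p)
    (fun a ha y hy => NilExp.pow_root RGDTwD4.hp cs hk p (hS a ha).1 hy) hx
  have h2 := NilExp.pow_mem (Set.empty_subset S₁) (fun a ha b hb => hc' a ha b hb.1) (p := p)
    (fun a ha y hy => NilExp.pow_root RGDTwD4.hp cs hk p (hS a ha.1).1 hy) h1
  rw [Sup_empty, Subgroup.mem_bot, ← pow_mul] at h2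
  exact h2

end Unip

section Main

variable {k : Type u} [Field k] [IsAlgClosed k] {p e : ℕ} [Fact p.Prime] [CharP k p]

/-- **Pairs of commuting elements.** -/
theorem pairs (hk : LocFin k) (hka : BpExc.TorAll.HAlg p k) {s u : ↥(chevD4.group k)} (hσs : tau k p e s = s)
    (hsu : u * s = s * u) {m : ℕ} (hm : m ≠ 0) (hmp : m.Coprime p) (hsm : s ^ m = 1) {j : ℕ} (huj : u ^ p ^ j = 1) :
    (u = 1 ∧ (s ^ ((p ^ e) ^ 4 + (p ^ e) ^ 3) = s ^ (p ^ e + 1) ∨ s ^ ((p ^ e) ^ 4 + p ^ e) = s ^ ((p ^ e) ^ 3 + 1) ∨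
      s ^ ((p ^ e) ^ 4 + 1) = s ^ (p ^ e) ^ 2)) ∨
    (s = 1 ∧ u ^ p ^ 3 = 1) ∨
    (u ^ p = 1 ∧ (s ^ (p ^ e) ^ 3 = s ∨ s ^ ((p ^ e) ^ 3 + 1) = 1)) ∨
    ((u ^ (p * p) = 1 ∧ (p = 3 → u ^ 3 = 1)) ∧
      (s ^ ((p ^ e) ^ 2 + p ^ e + 1) = 1 ∨ s ^ ((p ^ e) ^ 2 + 1) = s ^ p ^ e)) := by
  set cs := coxeterD4.toCoxeterSystem
  have hfin := finite_W RGDTwD4.hp cs
  have H := tow (k := k) RGDTwD4.hp cs hk p
  have hN : NSys coxeterD4 (TT chevD4 k) (nc RGDTwD4.hp k) := by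
    have h1 := H.nsys
    rwa [TL_eq RGDTwD4.hp hk] at h1
  obtain ⟨z₁, t, n, w, hx, ht, hn, hnt⟩ := H720.TorusReal.exists_toral RGDTwD4.hp cs hka hk (fr_tau cs) hN hσs hm hmp
    hsm
  have hchi := fr_conj_tau cs hk hn ht hnt
  obtain ⟨v, i, hi⟩ := exists_conj_rep cs w
  obtain ⟨g, hg⟩ := exists_rp cs hN v
  set t' := g * t * g⁻¹ with ht'
  have htT : t' ∈ TT chevD4 k := (Subgroup.mem_normalizer_iff.1 hg.mem_normalizer t).1 ht
  have hR : ∀ y : V, cX RGDTwD4.hp t' ((reps i).ap y).fn = cX RGDTwD4.hp t' y.fn ^ p ^ e := by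
    intro y
    have h1 := hi y
    rw [← h1]
    show cX RGDTwD4.hp t' (rep cs RGDTwD4.hp.isCartan v
      (rep cs RGDTwD4.hp.isCartan w (tri (rep cs RGDTwD4.hp.isCartan v⁻¹ y.fn)))) = _
    rw [ht', cX_rp RGDTwD4.hp cs hk p hg ht, hchi, ← cX_rp RGDTwD4.hp cs hk p hg ht, rep_apply_inv]
  have hmc := isMC_cX RGDTwD4.hp htT
  set z := z₁ * g⁻¹ with hz
  have hs : s = z * t' * z⁻¹ := by rw [hx, ht', hz]; group
  have hpow : ∀ a b : ℕ, (∀ j, cX RGDTwD4.hp t' (sr j) ^ a = cX RGDTwD4.hp t' (sr j) ^ b) → s ^ a = s ^ b := by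
    intro a b h1
    have h2 : t' ^ a = t' ^ b := cX_inj RGDTwD4.hp (pow_mem htT a) (pow_mem htT b) fun j => by
      rw [cX_pow RGDTwD4.hp htT, cX_pow RGDTwD4.hp htT, h1]
    have h3 : ∀ n : ℕ, s ^ n = z * t' ^ n * z⁻¹ := fun n => by rw [hs]; exact conj_pow
    rw [h3, h3, h2]
  obtain ⟨g₂, hg₂, hU⟩ := UnipCent.exists_conj RGDTwD4.hp cs hk (p := p) htT (u := z⁻¹ * u * z) (j := j) (by
      have h1 : t' = z⁻¹ * s * z := by rw [hs]; group
      rw [h1]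
      calc z⁻¹ * u * z * (z⁻¹ * s * z) = z⁻¹ * (u * s) * z := by group
        _ = z⁻¹ * (s * u) * z := by rw [hsu]
        _ = _ := by group) (by
      have h1 := conj_pow (a := z⁻¹) (b := u) (i := p ^ j)
      rw [inv_inv] at h1
      rw [h1, huj]; group)
  set u' := g₂ * (z⁻¹ * u * z) * g₂⁻¹ with hu'
  have hupow : ∀ a : ℕ, u' ^ a = 1 → u ^ a = 1 := by
    intro a h1
    have h2 : u = (g₂ * z⁻¹)⁻¹ * u' * (g₂ * z⁻¹) := by rw [hu']; group
    have h3 := conj_pow (a := (g₂ * z⁻¹)⁻¹) (b := u') (i := a)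
    rw [inv_inv] at h3
    rw [h2, h3, h1]; group
  set S := SP (Sx cs RGDTwD4.hp.isCartan (ch RGDTwD4.hp) t') with hS
  have hSr : ∀ a ∈ S, IsRoot cs RGDTwD4.hp.isCartan a ∧ 0 ≤ a := fun a ha => ⟨ha.1.1, ha.2⟩
  have hSv : ∀ a ∈ S, ∃ y ∈ pos, y.fn = a ∧ cX RGDTwD4.hp t' y.fn = 1 := by
    intro a ha
    obtain ⟨y, hy, e⟩ := mem_pos cs ha.1.1 ha.2
    exact ⟨y, hy, e, by rw [e, cX_root RGDTwD4.hp cs htT ha.1.1]; exact ha.1.2⟩
  have hadd : ∀ {x y : V}, x ∈ pos → y ∈ pos → 0 ≤ x.fn → 0 ≤ y.fn →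
      IsRoot cs RGDTwD4.hp.isCartan (x.fn + y.fn) → x.add y ∈ pos := by
    intro x y hx hy h0 h0' h1
    obtain ⟨w', hw', e⟩ := mem_pos cs h1 (add_nonneg h0 h0')
    have h2 : w' = x.add y := fn_inj (by rw [e, fn_add])
    rwa [h2] at hw'
  by_cases hne : S = ∅
  · -- no roots
    left
    rw [hne, Sup_empty, Subgroup.mem_bot] at hU
    refine ⟨by simpa using hupow 1 (by rw [pow_one]; exact hU), ?_⟩
    rcases c0' hmc hR with h | h | h
    · left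
      refine hpow _ _ fun j => ?_
      rw [pow_add, pow_add, pow_one]
      exact h j
    · right; left
      refine hpow _ _ fun j => ?_
      rw [pow_add, pow_add, pow_one]
      exact h j
    · right; right
      refine hpow _ _ fun j => ?_
      rw [pow_add, pow_one]
      exact h j
  obtain ⟨a₀, ha₀⟩ := Set.nonempty_iff_ne_empty.2 hne
  by_cases hsum : ∃ a ∈ S, ∃ b ∈ S, IsRoot cs RGDTwD4.hp.isCartan (a + b)
  · -- sums
    by_cases hall : ∀ y : V, cX RGDTwD4.hp t' y.fn = 1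
    · right; left
      have ht1 : t' = 1 := cX_inj RGDTwD4.hp htT (one_mem _) fun j => by
        rw [cX_one, ← fn_bas]; exact hall _
      refine ⟨by rw [hs, ht1]; group, ?_⟩
      have h1 : u' ∈ RGD.Sup (XX chevD4 4 k) (Hn cs 1) := by
        refine RGD.Sup_mono (S := S) ?_ hU
        intro a ha
        refine ⟨ha.1.1, ha.2, ?_⟩
        have := RGD.ht_pos ha.1.1 ha.2
        omega
      exact hupow _ (U_exp' cs hk p h1)
    · right; right; right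
      have key : ∀ a ∈ S, ∀ b ∈ S, IsRoot cs RGDTwD4.hp.isCartan (a + b) →
          ((∀ j, cX RGDTwD4.hp t' (sr j) ^ (p ^ e) ^ 2 * cX RGDTwD4.hp t' (sr j) ^ p ^ e *
            cX RGDTwD4.hp t' (sr j) = 1) ∨ (∀ j, cX RGDTwD4.hp t' (sr j) ^ (p ^ e) ^ 2 * cX RGDTwD4.hp t' (sr j) =
              cX RGDTwD4.hp t' (sr j) ^ p ^ e)) ∧
            ∀ c ∈ S, ¬ IsRoot cs RGDTwD4.hp.isCartan (a + b + c) := by
        intro a ha b hb hab
        obtain ⟨x, hx, ex, hx1⟩ := hSv a ha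
        obtain ⟨y, hy, ey, hy1⟩ := hSv b hb
        have hxy : x.add y ∈ pos := hadd hx hy (by rw [ex]; exact ha.2) (by rw [ey]; exact hb.2)
          (by rw [ex, ey]; exact hab)
        rcases c2' hmc hR hx hy hxy hx1 hy1 with h | ⟨h, h'⟩
        · exact absurd h hall
        refine ⟨h, fun c hc habc => ?_⟩
        obtain ⟨w', hw', ew, hw1⟩ := hSv c hc
        refine h' w' hw' ?_ hw1
        refine hadd hxy hw' ?_ (by rw [ew]; exact hc.2) ?_
        · rw [fn_add, ex, ey]; exact add_nonneg ha.2 hb.2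
        · rw [fn_add, ex, ey, ew]; exact habc
      obtain ⟨a, ha, b, hb, hab⟩ := hsum
      have hcl : ∀ a ∈ S, ∀ b ∈ S, IsRoot cs RGDTwD4.hp.isCartan (a + b) → a + b ∈ S := by
        intro a ha b hb hab
        refine ⟨⟨hab, ?_⟩, add_nonneg ha.2 hb.2⟩
        rw [← cX_root RGDTwD4.hp cs htT hab, hmc.add, cX_root RGDTwD4.hp cs htT ha.1.1,
          cX_root RGDTwD4.hp cs htT hb.1.1, ha.1.2, hb.1.2, one_mul]
      have h2 := exp_two cs hk p hSr hcl (fun a ha b hb c hc hab => (key a ha b hb hab).2 c hc) hU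
      have h2' := exp_two' cs hk p hSr hcl (fun a ha b hb c hc hab => (key a ha b hb hab).2 c hc) hU
      refine ⟨⟨hupow _ h2', fun h => hupow 3 (h2.2 h)⟩, ?_⟩
      rcases (key a ha b hb hab).1 with h | h
      · left
        have h3 := hpow ((p ^ e) ^ 2 + p ^ e + 1) 0 fun j => by
          rw [pow_add, pow_add, pow_one, pow_zero]
          exact h j
        rwa [pow_zero] at h3
      · right
        refine hpow _ _ fun j => ?_
        rw [pow_add, pow_one]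
        exact h j
  · -- no sums
    right; right; left
    push Not at hsum
    refine ⟨hupow p (exp_one cs hk p hSr hsum hU), ?_⟩
    obtain ⟨x, hx, -, hx1⟩ := hSv a₀ ha₀
    rcases c1' hmc hR hx hx1 with h | h
    · left
      have h3 := hpow ((p ^ e) ^ 3) 1 fun j => by
        rw [pow_one]
        exact h j
      rwa [pow_one] at h3
    · right
      have h3 := hpow ((p ^ e) ^ 3 + 1) 0 fun j => by
        rw [pow_add, pow_one, pow_zero]
        exact h j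
      rwa [pow_zero] at h3

end Main

end Cfsg.Agent.H872.TD4
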