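import Cfsg.Agent.H872.TD4.Main
import Cfsg.Agent.H378.TorFin

/-!
# TEAM TWOCYC (S3507), row `³D₄(q)`: element orders, any characteristic (helper872)

* `ob_tau` : the order of an element of `D₄(k)` fixed by the twisted Frobenius automorphism `tau k p e`;
* `ob_tw` : the order of an element of `³D₄(q)`.
-/

set_option autoImplicit false
set_option linter.unusedSectionVars false

namespace Cfsg.Agent.H872.TD4

open Cfsg Cfsg.Lie Cfsg.Lie.ChevalleyDatum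
open Cfsg.Agent.H129.TriD4 Cfsg.Agent.BpExc.TowChev Cfsg.Agent.H378

universe u

/-- the possible element orders of `³D₄(q)` -/
def OB (p q n : ℕ) : Prop :=
  n ∣ (q ^ 3 - 1) * (q + 1) ∨ n ∣ (q ^ 3 + 1) * (q - 1) ∨ n ∣ q ^ 4 - q ^ 2 + 1 ∨ n ∣ p ^ 3 ∨
    n ∣ p * (q ^ 3 - 1) ∨ n ∣ p * (q ^ 3 + 1) ∨
    (n ∣ p * p * (q ^ 2 + q + 1) ∧ (p = 3 → n ∣ 3 * (q ^ 2 + q + 1))) ∨
    (n ∣ p * p * (q ^ 2 - q + 1) ∧ (p = 3 → n ∣ 3 * (q ^ 2 - q + 1)))

theorem dvd_of_pow_eq {G : Type*} [Group G] {s : G} {A B C : ℕ} (h : s ^ A = s ^ B) (e : A = B + C) :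
    orderOf s ∣ C := by
  rw [e, pow_add] at h
  exact orderOf_dvd_of_pow_eq_one (mul_eq_left.1 h)

theorem ob_tau {k : Type u} [Field k] [IsAlgClosed k] {p e : ℕ} [hpf : Fact p.Prime] [CharP k p] (hk : LocFin k)
    (hka : BpExc.TorAll.HAlg p k) (he : 0 < e) {a : ↥(chevD4.group k)} (hσa : tau k p e a = a)
    (hn0 : orderOf a ≠ 0) : OB p (p ^ e) (orderOf a) := by
  have hp : p.Prime := hpf.out
  obtain ⟨q, hq⟩ : ∃ q, q = p ^ e := ⟨_, rfl⟩
  have hq2 : 2 ≤ q := by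
    rw [hq]
    exact hp.two_le.trans (Nat.le_self_pow he.ne' p)
  obtain ⟨j, m, hpm, hn⟩ := Nat.exists_eq_pow_mul_and_not_dvd hn0 p hp.ne_one
  have hm0 : m ≠ 0 := by
    rintro rfl
    rw [mul_zero] at hn
    exact hn0 hn
  have hpj : 0 < p ^ j := pow_pos hp.pos j
  have hos : orderOf (a ^ p ^ j) = m := by
    rw [orderOf_pow' _ hpj.ne', hn, Nat.gcd_mul_right_left, Nat.mul_div_cancel_left _ hpj]
  have hou : orderOf (a ^ m) = p ^ j := by
    rw [orderOf_pow' _ hm0, hn, Nat.gcd_mul_left_left, Nat.mul_div_cancel _ (Nat.pos_of_ne_zero hm0)]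
  have hmp : m.Coprime p := ((Nat.Prime.coprime_iff_not_dvd hp).2 hpm).symm
  have key := pairs (k := k) (p := p) (e := e) hk hka (s := a ^ p ^ j) (u := a ^ m) (by rw [map_pow, hσa])
    (by rw [← pow_add, ← pow_add, add_comm]) hm0 hmp
    (by rw [← pow_mul, ← hn, pow_orderOf_eq_one]) (j := j)
    (by rw [← pow_mul, mul_comm, ← hn, pow_orderOf_eq_one])
  rw [← hq] at key ⊢
  obtain ⟨c, hc⟩ : ∃ c, q = c + 2 := ⟨q - 2, by omega⟩
  have e1 : q ^ 4 + q ^ 3 = (q + 1) + (q ^ 3 - 1) * (q + 1) := by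
    obtain ⟨d, hd⟩ : ∃ d, q ^ 3 = d + 1 := ⟨q ^ 3 - 1, by have := Nat.one_le_pow 3 q (by omega); omega⟩
    rw [show q ^ 4 = q ^ 3 * q by ring, hd, Nat.add_sub_cancel]; ring
  have e2 : q ^ 4 + q = (q ^ 3 + 1) + (q ^ 3 + 1) * (q - 1) := by
    rw [hc, show c + 2 - 1 = c + 1 by omega]; ring
  have e3 : q ^ 4 + 1 = q ^ 2 + (q ^ 4 - q ^ 2 + 1) := by
    have : q ^ 2 ≤ q ^ 4 := Nat.pow_le_pow_right (by omega) (by norm_num)
    omega
  have e4 : q ^ 2 + 1 = q + (q ^ 2 - q + 1) := by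
    have : q ≤ q ^ 2 := by nlinarith
    omega
  have e5 : q ^ 3 = 1 + (q ^ 3 - 1) := by
    have := Nat.one_le_pow 3 q (by omega)
    omega
  rcases key with ⟨hu, hs⟩ | ⟨hs, hu⟩ | ⟨hu, hs⟩ | ⟨⟨hu2, hu3⟩, hs⟩
  · -- semisimple elements
    rw [hu, orderOf_one] at hou
    rw [hn, ← hou, one_mul, ← hos]
    rcases hs with hs | hs | hs
    · exact Or.inl (dvd_of_pow_eq hs e1)
    · exact Or.inr (Or.inl (dvd_of_pow_eq hs e2))
    · exact Or.inr (Or.inr (Or.inl (dvd_of_pow_eq hs e3)))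
  · -- unipotent elements
    rw [hs, orderOf_one] at hos
    rw [hn, ← hos, mul_one, ← hou]
    exact Or.inr (Or.inr (Or.inr (Or.inl (orderOf_dvd_of_pow_eq_one hu))))
  · have h1 : p ^ j ∣ p := hou ▸ orderOf_dvd_of_pow_eq_one hu
    rcases hs with hs | hs
    · have h2 : m ∣ q ^ 3 - 1 := hos ▸ dvd_of_pow_eq (B := 1) (by rw [pow_one]; exact hs) e5
      rw [hn]
      exact Or.inr (Or.inr (Or.inr (Or.inr (Or.inl (mul_dvd_mul h1 h2)))))
    · have h2 : m ∣ q ^ 3 + 1 := hos ▸ orderOf_dvd_of_pow_eq_one hs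
      rw [hn]
      exact Or.inr (Or.inr (Or.inr (Or.inr (Or.inr (Or.inl (mul_dvd_mul h1 h2))))))
  · have h1 : p ^ j ∣ p * p := hou ▸ orderOf_dvd_of_pow_eq_one hu2
    have h3 : p = 3 → p ^ j ∣ 3 := fun h => hou ▸ orderOf_dvd_of_pow_eq_one (hu3 h)
    rcases hs with hs | hs
    · have h2 : m ∣ q ^ 2 + q + 1 := hos ▸ orderOf_dvd_of_pow_eq_one hs
      rw [hn]
      exact Or.inr (Or.inr (Or.inr (Or.inr (Or.inr (Or.inr (Or.inl ⟨mul_dvd_mul h1 h2,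
        fun h => mul_dvd_mul (h3 h) h2⟩))))))
    · have h2 : m ∣ q ^ 2 - q + 1 := hos ▸ dvd_of_pow_eq hs e4
      rw [hn]
      exact Or.inr (Or.inr (Or.inr (Or.inr (Or.inr (Or.inr (Or.inr ⟨mul_dvd_mul h1 h2,
        fun h => mul_dvd_mul (h3 h) h2⟩))))))

/-- **Element orders of `³D₄(q)`.** -/
theorem ob_tw {K : Type u} [Field K] [Fintype K] {q : ℕ} (hq : IsPrimePow q) (hK : Fintype.card K = q ^ 3)
    (g : ↥(twistedD4 K q)) : ∃ p f, p.Prime ∧ 0 < f ∧ q = p ^ f ∧ OB p q (orderOf g) := by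
  obtain ⟨k, _, _, f, p, _, hC, _, hk, hka, -, -⟩ := TorFin.exists_closure K
  have hp : p.Prime := Fact.out
  obtain ⟨p', e, hp', he, hqe⟩ := id hq
  have hK' : CharP K p := (RingHom.charP_iff f f.injective p).2 hC
  have hpp : p' = p := by
    obtain ⟨n, hp1, hn⟩ := FiniteField.card K p
    have h1 : p' ∣ p ^ (n : ℕ) := by
      rw [← hn, hK, ← hqe]
      exact dvd_pow (dvd_pow_self p' he.ne') (by norm_num)
    exact (Nat.prime_dvd_prime_iff_eq hp'.nat_prime hp).1 (hp'.nat_prime.dvd_of_dvd_pow h1)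
  subst hpp
  have hqe' : q = p' ^ e := hqe.symm
  set a := embT (k := k) f hq hK g with ha
  have hσa : tau k p' e a = a := tau_embT f hqe' hq hK g
  have hoa : orderOf a = orderOf g := orderOf_injective _ (embT_injective f hq hK) g
  have hn0 : orderOf a ≠ 0 := by rw [hoa]; exact (orderOf_pos g).ne'
  refine ⟨p', e, hp, he, hqe', ?_⟩
  rw [← hoa, hqe']
  exact ob_tau hk hka he hσa hn0

end Cfsg.Agent.H872.TD4
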